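import Cfsg.Agent.Lib.POmegaBal.Geom
import Cfsg.Agent.Lib.POmegaSim.Graph
import Cfsg.Agent.Lib.AutPSL.BalanceCore
import Cfsg.Agent.Lib.OrthOmega.Adjust

/-!
Systems of reflections attached to a graph involution: how the odd core of its fixed points and an
automorphism centralising the fixed points act on them.
-/

set_option autoImplicit false
set_option linter.unusedSectionVars false

namespace CfsgLib.POmegaBal

open Matrix QuadraticMap CfsgLib.Orth CfsgLib.AutBalance Cfsg.Agent.GammaO57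
open CfsgLib.POmegaSim (Sim SimData act oS emb)
open CfsgLib.POmegaSim.SimData (scalarS)
open LinearMap (BilinForm)

variable {F : Type*} [Field F] [Fintype F] {ι : Type} [Fintype ι] [DecidableEq ι]
  {Q : QuadraticForm F (ι → F)}

/-- The odd core of the fixed points, inside the automorphism group. -/
noncomputable def coreM (γ : MulAut (Cfsg.POmega F ⇑Q)) : Subgroup (MulAut (Cfsg.POmega F ⇑Q)) :=
  (Cfsg.pPrimeCore 2 (fixedPts γ)).map
    ((MulAut.conj : Cfsg.POmega F ⇑Q →* MulAut (Cfsg.POmega F ⇑Q)).comp (fixedPts γ).subtype)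

theorem odd_coreM (γ : MulAut (Cfsg.POmega F ⇑Q)) : Odd (Nat.card (coreM γ)) := by
  have h := CfsgLib.PCore.pPrimeCore_coprime (p := 2) (G := fixedPts γ)
  have h' := Nat.Coprime.coprime_dvd_left (Subgroup.card_map_dvd (Cfsg.pPrimeCore 2 (fixedPts γ))
    ((MulAut.conj : Cfsg.POmega F ⇑Q →* MulAut (Cfsg.POmega F ⇑Q)).comp (fixedPts γ).subtype)) h
  exact Nat.coprime_two_left.mp h'.symm

theorem conj_mem_coreM {γ β y : MulAut (Cfsg.POmega F ⇑Q)} (hβ : β * γ = γ * β) (hy : y ∈ coreM γ) :
    β * y * β⁻¹ ∈ coreM γ := by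
  obtain ⟨k, hk, rfl⟩ := hy
  have hfix : ∀ {δ : MulAut (Cfsg.POmega F ⇑Q)}, δ * γ = γ * δ → ∀ z ∈ fixedPts γ, δ z ∈ fixedPts γ := by
    intro δ hδ z hz
    show γ (δ z) = δ z
    rw [← MulAut.mul_apply, ← hδ, MulAut.mul_apply, show γ z = z from hz]
  have hβ' : β⁻¹ * γ = γ * β⁻¹ := by
    rw [inv_mul_eq_iff_eq_mul, ← mul_assoc, hβ, mul_inv_cancel_right]
  let e : fixedPts γ ≃* fixedPts γ :=
    { toFun := fun z => ⟨β z.1, hfix hβ _ z.2⟩
      invFun := fun z => ⟨β⁻¹ z.1, hfix hβ' _ z.2⟩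
      left_inv := fun z => Subtype.ext (MulAut.inv_apply_self _ _ _)
      right_inv := fun z => Subtype.ext (MulAut.apply_inv_self _ _ _)
      map_mul' := fun z w => Subtype.ext (map_mul β z.1 w.1) }
  refine ⟨e k, ?_, (conj_map β k.1).symm⟩
  show e k ∈ Cfsg.pPrimeCore 2 (fixedPts γ)
  rw [← CfsgLib.PCore.map_pPrimeCore_equiv e]
  exact ⟨k, hk, rfl⟩

/-- A system of reflections on a non-degenerate piece of the space. -/
structure ReflSys (Q : QuadraticForm F (ι → F)) (γ : MulAut (Cfsg.POmega F ⇑Q)) {k : Type*} [Field k]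
    [Fintype k] {V : Type*} [AddCommGroup V] [Module k V] [FiniteDimensional k V] (B : BilinForm k V) where
  hB : IsSymForm B
  j : V →+ (ι → F)
  R : V → O Q
  on_j : ∀ a, B a a ≠ 0 → ∀ v, app (R a) (j v) = j (rfl' B a v)
  on_perp : ∀ a, B a a ≠ 0 → ∀ z, (∀ v, polar Q (j v) z = 0) → app (R a) z = z
  span : ∀ z, ∃ v z', (∀ w, polar Q (j w) z' = 0) ∧ z = j v + z'
  j_inj : Function.Injective j
  comm : ∀ a, B a a ≠ 0 → Commute (act Q (oS Q (R a))) γ

namespace ReflSys

variable {γ : MulAut (Cfsg.POmega F ⇑Q)} {k : Type*} [Field k] [Fintype k] {V : Type*} [AddCommGroup V]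
  [Module k V] [FiniteDimensional k V] {B : BilinForm k V} (T : ReflSys Q γ B)
include T

theorem ext {g h : O Q} (h1 : ∀ v, app g (T.j v) = app h (T.j v))
    (h2 : ∀ z, (∀ v, polar Q (T.j v) z = 0) → app g z = app h z) : g = h :=
  ext_app fun z => by
    obtain ⟨v, z', hz', rfl⟩ := T.span z
    rw [map_add, map_add, h1, h2 z' hz']

theorem R_mul_self {a : V} (ha : B a a ≠ 0) : T.R a * T.R a = 1 :=
  T.ext (fun v => by rw [app_mul, T.on_j a ha, T.on_j a ha, rfl'_rfl' T.hB, app_one]) fun z hz => by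
    rw [app_mul, T.on_perp a ha z hz, T.on_perp a ha z hz, app_one]

theorem R_comm {a b : V} (ha : B a a ≠ 0) (hb : B b b ≠ 0) (hab : B a b = 0) :
    T.R a * T.R b = T.R b * T.R a :=
  T.ext (fun v => by
    rw [app_mul, app_mul, T.on_j a ha, T.on_j b hb, T.on_j a ha, T.on_j b hb]
    congr 1
    simp only [rfl', map_sub, map_smul, LinearMap.sub_apply, LinearMap.smul_apply, smul_eq_mul,
      T.hB.symm b a, hab, mul_zero, sub_zero]
    abel) fun z hz => by
    rw [app_mul, app_mul, T.on_perp a ha z hz, T.on_perp b hb z hz, T.on_perp a ha z hz]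

theorem R_conj (s : O Q) (f : V ≃ₗ[k] V) (hf : ∀ v w, B (f v) (f w) = B v w)
    (hs : ∀ v, app s (T.j v) = T.j (f v)) {a : V} (ha : B a a ≠ 0) : s * T.R a * s⁻¹ = T.R (f a) := by
  have hs' : ∀ v, app s⁻¹ (T.j (f v)) = T.j v := fun v => by rw [← hs, app_inv_app]
  refine T.ext (fun v => ?_) fun z hz => ?_
  · obtain ⟨v, rfl⟩ := f.surjective v
    rw [app_mul, app_mul, hs', T.on_j a ha, hs, T.on_j _ (by rw [hf]; exact ha)]
    congr 1
    simp only [rfl', map_sub, map_smul, hf]
  · have hz' : ∀ v, polar Q (T.j v) (app s⁻¹ z) = 0 := fun v => by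
      rw [← polar_app s, app_app_inv, hs]; exact hz _
    rw [app_mul, app_mul, T.on_perp a ha _ hz', app_app_inv, T.on_perp _ (by rw [hf]; exact ha) z hz]

theorem act_eq_iff (S : SimData Q) (hn : 3 ≤ Module.finrank k V) {a b : V} (ha : B a a ≠ 0) (hb : B b b ≠ 0) :
    act Q (oS Q (T.R a)) = act Q (oS Q (T.R b)) ↔ ∃ c : k, a = c • b := by
  constructor
  · intro h
    obtain ⟨c, hc⟩ := S.act_eq_one (y := oS Q (T.R a) * oS Q (T.R b)) (by
      rw [map_mul, h, ← map_mul, ← map_mul, T.R_mul_self hb, map_one, map_one])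
    have hc' : ∀ v, T.j (rfl' B a (rfl' B b v)) = (c : F) • T.j v := fun v => by
      have := congrArg (fun y : ↥(Sim Q) => (y.1 : Matrix ι ι F) *ᵥ T.j v) hc
      have e : ∀ z, (((scalarS Q c).1 : GL ι F) : Matrix ι ι F) *ᵥ z = (c : F) • z := fun z => by
        show Matrix.scalar ι (c : F) *ᵥ z = _
        rw [Matrix.scalar_apply, ← Matrix.smul_one_eq_diagonal, smul_mulVec, one_mulVec]
      simp only [e] at this
      rw [← this, ← T.on_j a ha, ← T.on_j b hb, ← app_mul]
      rfl
    let Φ : V →ₗ[k] k × k := LinearMap.prod (B a) (B b)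
    obtain ⟨w, hw, hw0⟩ := Submodule.exists_mem_ne_zero_of_ne_bot
      (LinearMap.ker_ne_bot_of_finrank_lt (f := Φ) (by simp; omega))
    rw [LinearMap.mem_ker, LinearMap.prod_apply] at hw
    have h1 : B w a = 0 := by rw [T.hB.symm]; exact congrArg Prod.fst hw
    have h2 : B w b = 0 := by rw [T.hB.symm]; exact congrArg Prod.snd hw
    have hc1 : (c : F) = 1 := by
      have h := hc' w
      simp only [rfl', h1, h2, mul_zero, zero_div, zero_smul, sub_zero] at h
      exact (smul_left_injective F (fun e => hw0 (T.j_inj (e.trans (map_zero T.j).symm)))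
        ((one_smul F (T.j w)).trans h)).symm
    have h := hc' (rfl' B b a)
    rw [hc1, one_smul, rfl'_rfl' T.hB] at h
    have e := T.j_inj h
    have h2a : rfl' B a a = -a := by
      rw [rfl', show 2 * B a a / B a a = (2 : k) by field_simp, two_smul]; abel
    rw [h2a, rfl'] at e
    refine ⟨(2 * B a b / B b b) / 2, ?_⟩
    have h2' : (2 : k) • a = (2 * B a b / B b b) • b := by
      rw [two_smul]
      nth_rewrite 2 [← neg_neg a]
      rw [e]
      abel
    calc a = (2 : k)⁻¹ • ((2 : k) • a) := by rw [smul_smul, inv_mul_cancel₀ T.hB.two_ne, one_smul]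
      _ = _ := by rw [h2', smul_smul]; congr 1; field_simp
  · rintro ⟨c, rfl⟩
    have hc : c ≠ 0 := fun h => ha (by simp [h])
    congr 2
    refine T.ext (fun v => ?_) fun z hz => by rw [T.on_perp _ ha z hz, T.on_perp _ hb z hz]
    rw [T.on_j _ ha, T.on_j _ hb]
    congr 1
    simp only [rfl', map_smul, LinearMap.smul_apply, smul_eq_mul, smul_smul]
    congr 2
    field_simp

/-- The elements of the odd core preserve the anisotropic lines. -/
theorem lines_coreM (S : SimData Q) (hn : 3 ≤ Module.finrank k V)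
    (hM : ∀ y ∈ coreM γ, ∃ (s : O Q) (f : V ≃ₗ[k] V), y = act Q (oS Q s) ∧
      (∀ v w, B (f v) (f w) = B v w) ∧ ∀ v, app s (T.j v) = T.j (f v))
    {s : O Q} {f : V ≃ₗ[k] V} (hy : act Q (oS Q s) ∈ coreM γ) (hf : ∀ v w, B (f v) (f w) = B v w)
    (hs : ∀ v, app s (T.j v) = T.j (f v)) {a : V} (ha : B a a ≠ 0) : ∃ c : k, f a = c • a := by
  have hconj : ∀ (t : O Q) (g : V ≃ₗ[k] V), (∀ v w, B (g v) (g w) = B v w) →
      (∀ v, app t (T.j v) = T.j (g v)) → ∀ b, B b b ≠ 0 →
      act Q (oS Q t) * act Q (oS Q (T.R b)) * (act Q (oS Q t))⁻¹ = act Q (oS Q (T.R (g b))) := by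
    intro t g hg ht b hb
    rw [← T.R_conj t g hg ht hb]
    simp only [map_mul, map_inv]
  have key := odd_commutes T.hB (fun b => act Q (oS Q (T.R b))) hn
    (fun b hb => by show act Q _ * act Q _ = 1; rw [← map_mul, ← map_mul, T.R_mul_self hb, map_one, map_one])
    (fun b c hb hc => T.act_eq_iff S hn hb hc)
    (fun b c hb hc hbc => by
      show act Q _ * act Q _ = act Q _ * act Q _
      rw [← map_mul, ← map_mul, ← map_mul, ← map_mul, T.R_comm hb hc hbc])
    (fun b e w hb he hw => by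
      let g : V ≃ₗ[k] V := LinearEquiv.ofLinear
        { toFun := fun v => rfl' B e (rfl' B b v)
          map_add' := fun v v' => by
            simp only [rfl', map_add, map_sub, map_smul, LinearMap.add_apply, LinearMap.sub_apply,
              LinearMap.smul_apply, smul_eq_mul]
            module
          map_smul' := fun t v => by
            simp only [rfl', map_sub, map_smul, LinearMap.sub_apply, LinearMap.smul_apply, smul_eq_mul,
              RingHom.id_apply]
            module }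
        { toFun := fun v => rfl' B b (rfl' B e v)
          map_add' := fun v v' => by
            simp only [rfl', map_add, map_sub, map_smul, LinearMap.add_apply, LinearMap.sub_apply,
              LinearMap.smul_apply, smul_eq_mul]
            module
          map_smul' := fun t v => by
            simp only [rfl', map_sub, map_smul, LinearMap.sub_apply, LinearMap.smul_apply, smul_eq_mul,
              RingHom.id_apply]
            module }
        (LinearMap.ext fun v => by
          show rfl' B e (rfl' B b (rfl' B b (rfl' B e v))) = v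
          rw [rfl'_rfl' T.hB, rfl'_rfl' T.hB])
        (LinearMap.ext fun v => by
          show rfl' B b (rfl' B e (rfl' B e (rfl' B b v))) = v
          rw [rfl'_rfl' T.hB, rfl'_rfl' T.hB])
      have h := hconj (T.R e * T.R b) g (fun v v' => by
          show B (rfl' B e (rfl' B b v)) (rfl' B e (rfl' B b v')) = _
          rw [form_rfl' T.hB, form_rfl' T.hB])
        (fun v => by rw [app_mul, T.on_j b hb, T.on_j e he]; rfl) w hw
      rw [map_mul, map_mul] at h
      exact h)
    (coreM γ) (odd_coreM γ)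
    (fun b hb y hy => by
      have h2 : act Q (oS Q (T.R b)) * act Q (oS Q (T.R b)) = 1 := by
        rw [← map_mul, ← map_mul, T.R_mul_self hb, map_one, map_one]
      have h := conj_mem_coreM (T.comm b hb) hy
      rwa [inv_eq_of_mul_eq_one_right h2] at h)
    (fun y hy b hb => by
      obtain ⟨t, g, rfl, hg, ht⟩ := hM y hy
      exact ⟨g b, by rw [hg]; exact hb, hconj t g hg ht b hb⟩)
    (act Q (oS Q s)) hy a ha
  have h1 : act Q (oS Q (T.R (f a))) = act Q (oS Q (T.R a)) := by
    rw [← hconj s f hf hs a ha, key, mul_inv_cancel_right]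
  exact (T.act_eq_iff S hn (by rw [hf]; exact ha) ha).1 h1

end ReflSys

/-- A semisimilarity commuting with a similarity up to scalars, on vectors. -/
theorem semi_comm (S : SimData Q) (y : ↥(semiGroup Q)) (w : ↥(Sim Q))
    (h : gAut Q y * act Q w = act Q w * gAut Q y) :
    ∃ c : Fˣ, ∀ v, semi y.1 ((w.1 : Matrix ι ι F) *ᵥ v) = (c : F) • ((w.1 : Matrix ι ι F) *ᵥ semi y.1 v) := by
  have h1 : gAut Q (y * emb Q w * (emb Q w * y)⁻¹) = 1 := by
    simp only [map_mul, map_inv]
    show gAut Q y * act Q w * (act Q w * gAut Q y)⁻¹ = 1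
    rw [h, mul_inv_cancel]
  obtain ⟨hr, c, hc⟩ := gAut_eq_one S.hQ S.hn S.hyp h1
  refine ⟨c, fun v => ?_⟩
  have e : ∀ z, semi (emb Q w).1 z = (w.1 : Matrix ι ι F) *ᵥ z := fun z => rfl
  have h2 : y.1 * (emb Q w).1 = (y * emb Q w * (emb Q w * y)⁻¹).1 * ((emb Q w).1 * y.1) := by
    rw [Subgroup.coe_mul, Subgroup.coe_mul, InvMemClass.coe_inv, Subgroup.coe_mul, inv_mul_cancel_right]
  have h3 := congrArg (fun g : GLS ι F => semi g v) h2
  simp only [semi_mul, e] at h3
  rw [h3, semi, hr, hc]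
  show Matrix.scalar ι (c : F) *ᵥ _ = _
  rw [Matrix.scalar_apply, ← Matrix.smul_one_eq_diagonal, smul_mulVec, one_mulVec]
  rfl

/-- An isometry in `Ω` commuting with the automorphism gives a fixed point. -/
theorem commute_of_fix (hinj : Function.Injective (MulAut.conj : Cfsg.POmega F ⇑Q →* MulAut (Cfsg.POmega F ⇑Q)))
    {γ u : MulAut (Cfsg.POmega F ⇑Q)} (hu : ∀ k ∈ fixedPts γ, u k = k) {z : O Q}
    (hz : z ∈ Cfsg.Omega F ⇑Q) (hzγ : Commute (act Q (oS Q z)) γ) :
    u * act Q (oS Q z) = act Q (oS Q z) * u := by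
  set k : Cfsg.POmega F ⇑Q := QuotientGroup.mk ⟨z, hz⟩
  have hk : MulAut.conj k = act Q (oS Q z) := (gAut_omegaIn ⟨z, hz⟩).symm
  have hfix : k ∈ fixedPts γ := by
    show γ k = k
    apply hinj
    rw [← conj_map, hk, mul_inv_eq_iff_eq_mul, hzγ.eq]
  rw [← hk, ← mul_inv_eq_iff_eq_mul, conj_map, hu k hfix]

end CfsgLib.POmegaBal
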