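import Cfsg.Agent.Lib.POmegaBal.FieldFix
import Cfsg.Agent.Lib.POmegaSim.GraphForms

/-!
Automorphisms of prime order of `PΩ⁻` outside the inner-diagonal group, up to conjugation: field
automorphisms of odd order.
-/

set_option autoImplicit false
set_option linter.unusedSectionVars false

namespace CfsgLib.POmegaBal

open Matrix QuadraticMap CfsgLib.Orth Cfsg.Agent.GammaO57 CfsgLib.FieldPOmega

variable {F : Type*} [Field F] [Fintype F]

/-- An anisotropic binary form fixed by a field automorphism of odd order. -/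
theorem exists_fixed_aniso {σ : F ≃+* F} {p : ℕ} (hp : Odd p) (hσ : σ ^ p = 1) :
    ∃ a b : F, σ a = a ∧ σ b = b ∧ Aniso a b := by
  classical
  set K := CfsgLib.FieldGalois.fixedSub σ
  have hns : ¬ Function.Surjective (fun t : K => t * t + t) := fun hs => by
    have h := Finite.injective_iff_surjective.2 hs
      (show (fun t : K => t * t + t) (-1) = (fun t : K => t * t + t) 0 by simp)
    exact one_ne_zero (neg_eq_zero.1 h)
  obtain ⟨c, hc⟩ : ∃ c : K, ∀ t : K, t * t + t ≠ c := by
    simpa [Function.Surjective] using hns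
  have hcσ : σ (c : F) = c := CfsgLib.FieldGalois.mem_fixedSub.1 c.2
  have hroot : ∀ θ : F, θ * θ + θ ≠ c := by
    intro θ hθ
    have h1 : σ θ * σ θ + σ θ = c := by rw [← map_mul, ← map_add, hθ, hcσ]
    have h2 : (σ θ - θ) * (σ θ + θ + 1) = 0 := by linear_combination h1 - hθ
    have hsq : σ (σ θ) = θ := by
      rcases mul_eq_zero.1 h2 with h | h
      · rw [sub_eq_zero.1 h, sub_eq_zero.1 h]
      · have e : σ θ = -θ - 1 := by linear_combination h
        rw [e, map_sub, map_neg, map_one, e]
        ring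
    have heven : ∀ n : ℕ, (σ ^ (2 * n)) θ = θ := fun n => by
      induction n with
      | zero => simp
      | succ n ih => rw [mul_add, mul_one, pow_add, RingAut.mul_apply, pow_two, RingAut.mul_apply, hsq, ih]
    have hfix : σ θ = θ := by
      obtain ⟨j, rfl⟩ := hp
      have h3 := congrArg (fun g : F ≃+* F => g θ) hσ
      simp only [pow_succ', RingAut.mul_apply, heven, RingAut.one_apply] at h3
      exact h3
    exact hc ⟨θ, CfsgLib.FieldGalois.mem_fixedSub.2 hfix⟩ (Subtype.ext hθ)
  refine ⟨1, -(c : F), map_one σ, by rw [map_neg, hcσ], fun z₁ z₂ h => ?_⟩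
  by_cases h2 : z₂ = 0
  · subst h2
    simp only [mul_zero, add_zero, zero_pow two_ne_zero, pow_eq_zero_iff two_ne_zero] at h
    exact ⟨h, rfl⟩
  · refine absurd ?_ (hroot (z₁ / z₂))
    field_simp
    linear_combination h

variable {k : ℕ} {a b : F}

theorem scalar_mem_proper (hk : 2 ≤ k) (hab : Aniso a b) {y : ↥(semiGroup (minusQ k F a b))}
    (hy : gAut (minusQ k F a b) y = 1) : y ∈ properSub k a b := by
  obtain ⟨hr, c, hc⟩ := gAut_eq_one (CfsgLib.POmega.minusQ_nondegenerate_any hab) (card_MI hk)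
    (minusData hk a b) hy
  rw [show y = scIn _ c from Subtype.ext (SemidirectProduct.ext hc hr)]
  exact scIn_mem c

/-- An element of odd prime order of a coset of a standard field element is proper. -/
theorem proper_of_pow (hk : 2 ≤ k) (hab : Aniso a b) {σ : F ≃+* F} (ha : σ a = a) (hb : σ b = b)
    (y : ↥(semiGroup (minusQ k F a b))) (hy : y.1.right = σ) {p : ℕ} (hp : Odd p) (hσ : σ ^ p = 1)
    (h : gAut (minusQ k F a b) y ^ p = 1) : y * (fEl (minus_fixes ha hb))⁻¹ ∈ properSub k a b := by
  classical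
  set φ := fEl (minus_fixes (k := k) ha hb)
  set r := oIn (minusQ k F a b) (refl (minusQ k F a b) (eM k F))
  set z := y * φ⁻¹
  have hz1 : z.1.right = 1 := by
    show y.1.right * φ.1⁻¹.right = 1
    rw [SemidirectProduct.inv_right, hy, fEl_right, mul_inv_cancel]
  refine (mem_or_mul_refl_mem hk hab z hz1).resolve_right fun hzr => ?_
  have hN : (properSub k a b).Normal := properSub_normal
  have hrr : r * r = 1 := by rw [← map_mul, refl_mul_self, map_one]
  have hrφ : φ * r = r * φ := by
    have e := conj_oIn φ (refl (minusQ k F a b) (eM k F))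
    have e2 : Cfsg.Agent.GammaO57.semi φ.1 (eM k F) = eM k F := by
      rw [Cfsg.Agent.GammaO57.semi, fEl_left, fEl_right, Units.val_one, one_mulVec]
      exact rat_single σ _
    rw [conjO_refl, e2] at e
    exact mul_inv_eq_iff_eq_mul.1 e
  have hq : QuotientGroup.mk' (properSub k a b) y = QuotientGroup.mk' (properSub k a b) (r * φ) := by
    have e : y = (z * r) * (r * φ) := by
      simp only [z, mul_assoc]
      rw [← mul_assoc r r, hrr, one_mul, inv_mul_cancel, mul_one]
    rw [e, map_mul, show QuotientGroup.mk' (properSub k a b) (z * r) = 1 from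
      (QuotientGroup.eq_one_iff _).2 hzr, one_mul]
  have hφp : φ ^ p = 1 := by
    apply Subtype.ext
    have := fEl_zpow (minus_fixes (k := k) ha hb) (p : ℤ)
    rw [zpow_natCast, zpow_natCast, hσ, map_one] at this
    exact this
  have hrp : r ^ p = r := by
    obtain ⟨j, rfl⟩ := hp
    rw [pow_succ, pow_mul, pow_two, hrr, one_pow, one_mul]
  have hyp : y ^ p ∈ properSub k a b := scalar_mem_proper hk hab (by rw [map_pow, h])
  have h1 : QuotientGroup.mk' (properSub k a b) r = 1 := by
    have e : (r * φ) ^ p = r := by rw [(show Commute r φ from hrφ.symm).mul_pow, hrp, hφp, mul_one]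
    rw [← e, map_pow, ← hq, ← map_pow]
    exact (QuotientGroup.eq_one_iff _).2 hyp
  have h2 := (oIn_mem_iff hk hab _).1 ((QuotientGroup.eq_one_iff _).1 h1)
  rw [dicksonHom_refl _ _ (by rw [minusQ_eM]; exact one_ne_zero)] at h2
  exact absurd h2 (by decide)

theorem isFieldAutOf_fEl {σ : F ≃+* F} (ha : σ a = a) (hb : σ b = b) :
    Cfsg.IsFieldAutPOmegaOf ⇑(minusQ k F a b) σ (gAut (minusQ k F a b) (fEl (minus_fixes ha hb))) :=
  fun s s' h => gAut_induced (fEl (minus_fixes (k := k) ha hb)) s s' (by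
    rw [fEl_left, fEl_right, Units.val_one, inv_one, Units.val_one, one_mul, mul_one]
    exact h)

/-- An automorphism of prime order outside the inner-diagonal group is an improper similarity of order two
or conjugate to a standard field automorphism of odd order. -/
theorem minus_cases (hk : 3 ≤ k) (hab : Aniso a b) (hgamma : Cfsg.gammaPOmega F ⇑(minusQ k F a b) = ⊤)
    {p : ℕ} [hp : Fact p.Prime] {x : MulAut (Cfsg.POmega F ⇑(minusQ k F a b))} (hord : orderOf x = p)
    (hnot : ∀ y ∈ properSub k a b, gAut (minusQ k F a b) y ≠ x) (h2p : p = 2 → (2 : F) ≠ 0) :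
    (p = 2 ∧ ∃ g : GL (MI k) F, g ∈ Cfsg.Geo.quadSimilarityGroup (F := F) ⇑(minusQ k F a b) ∧
        Cfsg.IsInducedBySemilinearPOmega ⇑(minusQ k F a b) g (RingEquiv.refl F) x) ∨
      (Odd p ∧ ∃ (a' b' : F) (σ : F ≃+* F) (ha : σ a' = a') (hb : σ b' = b') (_ : Aniso a' b')
        (ψ : Cfsg.POmega F ⇑(minusQ k F a b) ≃* Cfsg.POmega F ⇑(minusQ k F a' b')),
        σ ≠ RingEquiv.refl F ∧ σ ^ p = 1 ∧
          MulAut.congr ψ x = gAut (minusQ k F a' b') (fEl (minus_fixes ha hb))) := by
  obtain ⟨y, rfl⟩ := gammaPOmega_le_range (show x ∈ Cfsg.gammaPOmega F ⇑(minusQ k F a b) by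
    rw [hgamma]; exact Subgroup.mem_top x)
  have hQ : (minusQ k F a b).polarBilin.Nondegenerate := CfsgLib.POmega.minusQ_nondegenerate_any hab
  have hn : 5 ≤ Fintype.card (MI k) := card_MI (k := k) (by omega)
  have hxp : gAut (minusQ k F a b) y ^ p = 1 := hord ▸ pow_orderOf_eq_one _
  set σ := y.1.right
  have hσp : σ ^ p = 1 := by
    obtain ⟨hr, -⟩ := gAut_eq_one hQ hn (minusData (k := k) (by omega) a b) (x := y ^ p) (by rw [map_pow, hxp])
    rw [SubmonoidClass.coe_pow] at hr
    exact (map_pow SemidirectProduct.rightHom y.1 p).symm.trans hr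
  rcases hp.out.eq_two_or_odd' with hp2 | hodd
  · left
    refine ⟨hp2, ?_⟩
    obtain ⟨w, hw⟩ := CfsgLib.POmegaSim.exists_similarity_of_involution (k := k) (by omega) (h2p hp2) hab
      (γ := gAut (minusQ k F a b) y) (by rw [hgamma]; exact Subgroup.mem_top _) (by
        rw [← pow_two]; subst hp2; exact hxp)
    exact ⟨w.1, w.2, hw ▸ CfsgLib.POmegaSim.act_induced w⟩
  · right
    refine ⟨hodd, ?_⟩
    have hσ1 : σ ≠ RingEquiv.refl F := by
      intro h1
      have h := proper_of_pow (σ := (1 : F ≃+* F)) (by omega) hab rfl rfl y h1 hodd (one_pow _) hxp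
      have e : fEl (minus_fixes (k := k) (σ := (1 : F ≃+* F)) (a := a) (b := b) rfl rfl) = 1 :=
        Subtype.ext (map_one SemidirectProduct.inr)
      rw [e, inv_one, mul_one] at h
      exact hnot y h rfl
    obtain ⟨a', b', ha, hb, hab'⟩ := exists_fixed_aniso hodd hσp
    obtain ⟨T, hT⟩ := exists_minus_iso k hab hab'
    have hx' := congr_gAut hT y
    set y' := conjSemi hT y
    have hy'p : gAut (minusQ k F a' b') y' ^ p = 1 := by rw [← hx', ← map_pow, hxp, map_one]
    have hy' : y'.1.right = σ := conjSemi_right hT y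
    have hz := proper_of_pow (by omega) hab' ha hb y' hy' hodd hσp hy'p
    have hσo : orderOf σ = p := orderOf_eq_prime hσp hσ1
    have he : gAut (minusQ k F a' b') (y' * (fEl (minus_fixes ha hb))⁻¹) *
        gAut (minusQ k F a' b') (fEl (minus_fixes ha hb)) = gAut (minusQ k F a' b') y' := by
      rw [← map_mul, inv_mul_cancel_right]
    obtain ⟨β, -, hβ⟩ := minus_conj_of_pow_eq_one (by omega) hab' ha hb _ hz (by rw [he, hσo]; exact hy'p)
    rw [he, ← hx'] at hβ
    refine ⟨a', b', σ, ha, hb, hab', (isoPOmega hT).trans β⁻¹, hσ1, hσp, ?_⟩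
    apply MulEquiv.ext
    intro z
    have h1 := DFunLike.congr_fun hβ (β z)
    rw [MulAut.mul_apply, MulAut.mul_apply, MulAut.inv_apply_self] at h1
    show β⁻¹ (isoPOmega hT (gAut (minusQ k F a b) y ((isoPOmega hT).symm ((β⁻¹).symm z)))) = _
    apply β.injective
    rw [MulAut.apply_inv_self]
    exact h1

end CfsgLib.POmegaBal
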