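import Cfsg.Agent.Lib.POmegaBal.FieldFix
import Cfsg.Agent.Lib.POmega.Simple

/-!
The fixed points of a standard field automorphism of odd prime order of minus type: trivial core when the
prime divides their number.
-/

set_option autoImplicit false
set_option linter.unusedSectionVars false

namespace CfsgLib.POmegaBal

open scoped commutatorElement
open Matrix QuadraticMap CfsgLib.Orth CfsgLib.AutBalance Cfsg.Agent.GammaO57 CfsgLib.FieldPOmega

theorem conj_injective_of_hyp {F : Type*} [Field F] [Fintype F] {ι : Type} [Fintype ι] [DecidableEq ι]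
    {Q : QuadraticForm F (ι → F)} (hQ : Q.polarBilin.Nondegenerate) (hn : 5 ≤ Fintype.card ι) (d : HypData Q) :
    Function.Injective (MulAut.conj : Cfsg.POmega F ⇑Q →* MulAut (Cfsg.POmega F ⇑Q)) := by
  refine (injective_iff_map_eq_one _).mpr fun x hx => ?_
  induction x using QuotientGroup.induction_on with
  | _ s =>
    rw [← gAut_omegaIn] at hx
    obtain ⟨-, c, hc⟩ := gAut_eq_one hQ hn d hx
    refine (QuotientGroup.eq_one_iff _).mpr (CfsgLib.POmega.mem_center_of_scalar (e := (c : F)) fun v => ?_)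
    have h : ((s : O Q) : GL ι F) = GeneralLinearGroup.scalar ι c := hc
    rw [app_apply, h]
    exact CfsgLib.FieldPOmega.scalar_mulVec c v

/-- Squares lie in `Ω`. -/
theorem sq_mem_omega {F : Type*} [Field F] [Fintype F] {ι : Type} [Fintype ι] [DecidableEq ι]
    {Q : QuadraticForm F (ι → F)} (hgen : reflClosure Q = ⊤) (g : O Q) : g * g ∈ Cfsg.Omega F ⇑Q := by
  let f : O Q →* Abelianization (O Q) := Abelianization.of * Abelianization.of
  have hf : f = 1 := CfsgLib.OrthOmega.hom_ext_refl hgen fun v _ => by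
    show Abelianization.of (refl Q v) * Abelianization.of (refl Q v) = 1
    rw [← map_mul, refl_mul_self, map_one]
  have h : g * g ∈ (Abelianization.of : O Q →* Abelianization (O Q)).ker := by
    rw [MonoidHom.mem_ker, map_mul]
    exact DFunLike.congr_fun hf g
  rwa [Abelianization.ker_of] at h

/-- A scalar isometry over the subfield stays scalar. -/
theorem mapO_scalar {F F₀ : Type*} [Field F] [Field F₀] {ι : Type} [Fintype ι] [DecidableEq ι] {e : F₀ →+* F}
    {Q₀ : QuadraticForm F₀ (ι → F₀)} {Q : QuadraticForm F (ι → F)} (h : Extends e Q₀ Q) {g : O Q₀} {c : F₀}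
    (hg : ∀ w, app g w = c • w) (v : ι → F) : app (h.mapO g) v = e c • v := by
  have : app (h.mapO g) = e c • LinearMap.id := by
    refine LinearMap.pi_ext' fun t => LinearMap.ext_ring ?_
    show app (h.mapO g) (Pi.single t 1) = e c • Pi.single t 1
    rw [← comp_single (e := e) t, h.app_mapO, hg, comp_smul']
  rw [this]; rfl

/-- An Eichler transformation over the subfield. -/
theorem mapO_eich {F F₀ : Type*} [Field F] [Field F₀] {ι : Type} [Fintype ι] [DecidableEq ι] {e : F₀ →+* F}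
    {Q₀ : QuadraticForm F₀ (ι → F₀)} {Q : QuadraticForm F (ι → F)} (h : Extends e Q₀ Q) {u c : ι → F₀}
    (hu : Q₀ u = 0) (hc : polar Q₀ u c = 0) : h.mapO (eich Q₀ u c) = eich Q (⇑e ∘ u) (⇑e ∘ c) := by
  have hu' : Q (⇑e ∘ u) = 0 := by rw [h, hu, map_zero]
  have hc' : polar Q (⇑e ∘ u) (⇑e ∘ c) = 0 := by rw [h.polar_comp, hc, map_zero]
  have key : app (h.mapO (eich Q₀ u c)) = app (eich Q (⇑e ∘ u) (⇑e ∘ c)) := by
    refine LinearMap.pi_ext' fun t => LinearMap.ext_ring ?_
    show app (h.mapO _) (Pi.single t 1) = app _ (Pi.single t 1)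
    rw [← comp_single (e := e) t, h.app_mapO, app_eich hu hc, app_eich hu' hc', comp_add', comp_add', comp_smul',
      comp_smul', h.polar_comp, h.polar_comp, h, map_sub, map_neg, map_mul]
  exact ext_app fun v => DFunLike.congr_fun key v

/-- A reflection in coordinates. -/
theorem app_refl_one {F : Type*} [Field F] [Fintype F] {ι : Type} [Fintype ι] [DecidableEq ι]
    {Q : QuadraticForm F (ι → F)} {v : ι → F} (hv : Q v = 1) (x : ι → F) :
    app (refl Q v) x = x - polar Q x v • v := by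
  rw [app_refl, hv, inv_one, one_mul]

/-- An involution of `Ω` which is not a scalar. -/
theorem exists_involution {F : Type*} [Field F] [Fintype F] {k : ℕ} (hk : 3 ≤ k) {a b : F} (h2 : (2 : F) ≠ 0) :
    ∃ h : O (minusQ k F a b), h ∈ Cfsg.Omega F ⇑(minusQ k F a b) ∧ h * h = 1 ∧
      ∀ c : F, ¬ ∀ v, app h v = c • v := by
  set Q := minusQ k F a b
  let i : Fin 3 → Fin k := fun j => ⟨j, by omega⟩
  set u : Fin 3 → (MI k → F) := fun j => bx F k (i j, true) + bx F k (i j, false)
  have hQu : ∀ j, Q (u j) = 1 := fun j => by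
    rw [QuadraticMap.map_add ⇑Q, Q_bx, Q_bx, polar_bx, zero_add, zero_add, if_pos (by rfl)]
  have hij : ∀ j l, j ≠ l → i j ≠ i l := fun j l h e => h (Fin.ext (congrArg Fin.val e :))
  have huu : ∀ j l, j ≠ l → polar Q (u j) (u l) = 0 := fun j l h => by
    simp [u, Q, polar_add_left, polar_add_right, polar_bx, (hij j l h).symm]
  have hu2 : ∀ j, polar Q (u j) (u j) = 2 := fun j => by rw [polar_self', hQu, mul_one]
  have hd0 : Q (u 0 - u 1) = 2 := by
    rw [sub_eq_add_neg, QuadraticMap.map_add ⇑Q, QuadraticMap.map_neg, hQu, hQu, polar_neg_right,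
      huu 0 1 (by decide)]
    ring
  set g := refl Q (u 0 - u 1) * refl Q (u 1) with hg
  have happ : ∀ x, app g x = x - polar Q x (u 1) • u 1 -
      ((polar Q x (u 0) + polar Q x (u 1)) / 2) • (u 0 - u 1) := fun x => by
    rw [hg, app_mul, app_refl_one (hQu 1), app_refl, hd0, polar_sub_left, polar_smul_left, polar_sub_right,
      polar_sub_right, huu 1 0 (by decide), hu2, smul_eq_mul]
    match_scalars <;> (field_simp; try ring)
  have hsq : ∀ x, app (g * g) x = x - polar Q x (u 0) • u 0 - polar Q x (u 1) • u 1 := fun x => by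
    rw [app_mul, happ x, happ]
    simp only [polar_sub_left, polar_add_left, polar_smul_left, smul_eq_mul, hu2, huu 0 1 (by decide),
      huu 1 0 (by decide)]
    match_scalars <;> (field_simp; try ring)
  refine ⟨g * g, ?_, ext_app fun x => ?_, fun c hc => ?_⟩
  · have e : g * g = ⁅refl Q (u 0 - u 1), refl Q (u 1)⁆ := by
      rw [commutatorElement_def, hg, inv_eq_of_mul_eq_one_right (refl_mul_self _),
        inv_eq_of_mul_eq_one_right (refl_mul_self _)]
      group
    rw [e]
    exact Subgroup.commutator_mem_commutator (Subgroup.mem_top _) (Subgroup.mem_top _)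
  · rw [app_mul, hsq, hsq, app_one]
    simp only [polar_sub_left, polar_smul_left, smul_eq_mul, hu2, huu 0 1 (by decide), huu 1 0 (by decide)]
    module
  · have hne : ∀ j, u j ≠ 0 := fun j h => one_ne_zero (α := F) (by rw [← hQu j, h, QuadraticMap.map_zero])
    have e2 := hc (u 2)
    rw [hsq, huu 2 0 (by decide), huu 2 1 (by decide), zero_smul, zero_smul, sub_zero, sub_zero] at e2
    have hc1 : c = 1 := (smul_left_injective F (hne 2) (show (c • u 2 : MI k → F) = (1 : F) • u 2 by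
      rw [one_smul]; exact e2.symm))
    have e0 := hc (u 0)
    rw [hsq, hu2, huu 0 1 (by decide), zero_smul, sub_zero, hc1] at e0
    have : (2 : F) • u 0 = 0 := by linear_combination (norm := module) -e0
    exact hne 0 ((smul_eq_zero.1 this).resolve_left h2)

section Minus

variable {F : Type*} [Field F] [Fintype F] {k : ℕ} {a b : F} (hk : 3 ≤ k) (hab : (minusQ k F a b).polarBilin.Nondegenerate)
  {σ : F ≃+* F} (ha : σ a = a) (hb : σ b = b)
include hk hab

/-- The representatives of the fixed points have rational entries. -/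
theorem fix_rational {p : ℕ} (hp : Odd p) (hσ : σ ^ p = 1) {s : ↥(Cfsg.Omega F ⇑(minusQ k F a b))}
    (h : gAut (minusQ k F a b) (fEl (minus_fixes ha hb)) (QuotientGroup.mk s) = QuotientGroup.mk s)
    (i t : MI k) : σ (((s : O (minusQ k F a b)) : GL (MI k) F).val i t) =
      ((s : O (minusQ k F a b)) : GL (MI k) F).val i t := by
  have hQ : (minusQ k F a b).polarBilin.Nondegenerate := hab
  have hn : 5 ≤ Fintype.card (MI k) := card_MI (k := k) (by omega)
  obtain ⟨z, hz, hzs⟩ : ∃ z ∈ Subgroup.center ↥(Cfsg.Omega F ⇑(minusQ k F a b)),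
      commAut (O (minusQ k F a b)) (conjO _ (fEl (minus_fixes ha hb))) s = s * z := by
    rw [gAut_mk] at h
    exact ⟨s⁻¹ * _, QuotientGroup.eq.1 h.symm, (mul_inv_cancel_left s _).symm⟩
  obtain ⟨c, hc2, hc⟩ := central_scalar hQ hn (minusData (k := k) (by omega) a b) hz
  set M := ((s : O (minusQ k F a b)) : GL (MI k) F).val
  have hM : ∀ i t, σ (M i t) = c * M i t := fun i t => by
    have e := congrArg (fun g : ↥(Cfsg.Omega F ⇑(minusQ k F a b)) => app (g : O (minusQ k F a b))
      (Pi.single t 1 : MI k → F)) hzs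
    simp only [Subgroup.coe_mul, app_mul, hc, map_smul] at e
    have e2 := congrFun e i
    simp only [app_apply, Matrix.mulVec_single_one, Pi.smul_apply, smul_eq_mul, Matrix.col_apply] at e2
    refine Eq.trans ?_ e2
    show σ (M i t) = (((conjO _ (fEl _) (s : O (minusQ k F a b)) : O _) : GL (MI k) F)).val i t
    rw [conjO_coe, fEl_left, fEl_right, inv_one, mul_one, one_mul]
    rfl
  have hcfix : σ c = c := by
    rcases mul_self_eq_one_iff.1 hc2 with e | e <;> simp [e]
  have hpow : ∀ n : ℕ, ∀ i t, (σ ^ n) (M i t) = c ^ n * M i t := fun n => by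
    induction n with
    | zero => intro i t; simp
    | succ n ih =>
      intro i t
      rw [pow_succ', RingAut.mul_apply, ih, map_mul, map_pow, hcfix, hM, pow_succ]
      ring
  rw [hM]
  by_cases h0 : M i t = 0
  · rw [h0, mul_zero]
  have h1 := hpow p i t
  rw [hσ, RingAut.one_apply] at h1
  obtain ⟨j, rfl⟩ := hp
  rw [pow_succ, pow_mul, pow_two, hc2, one_pow, one_mul] at h1
  exact h1.symm

set_option maxHeartbeats 8000000 in
/-- The core of the fixed points is trivial when the prime divides their number. -/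
theorem core_fixed {p : ℕ} [hp : Fact p.Prime] (h2p : p = 2 → (2 : F) ≠ 0) (hσ : σ ^ p = 1)
    (hdvd : Odd p → p ∣ Nat.card (fixedPts (gAut (minusQ k F a b) (fEl (minus_fixes ha hb))))) :
    Cfsg.pPrimeCore p (fixedPts (gAut (minusQ k F a b) (fEl (minus_fixes ha hb)))) = ⊥ := by
  classical
  let K := CfsgLib.FieldGalois.fixedSub σ
  let : Fintype K := Fintype.ofFinite _
  obtain ⟨a₀, rfl⟩ : ∃ a₀ : K, K.subtype a₀ = a := ⟨⟨a, CfsgLib.FieldGalois.mem_fixedSub.2 ha⟩, rfl⟩
  obtain ⟨b₀, rfl⟩ : ∃ b₀ : K, K.subtype b₀ = b := ⟨⟨b, CfsgLib.FieldGalois.mem_fixedSub.2 hb⟩, rfl⟩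
  set e : K →+* F := K.subtype
  set Q := minusQ k F (e a₀) (e b₀)
  have hQ : Q.polarBilin.Nondegenerate := hab
  have hn : 5 ≤ Fintype.card (MI k) := card_MI (k := k) (by omega)
  have hn7 : 7 ≤ Fintype.card (MI k) := by simp; omega
  set Q₀ := minusQ k K a₀ b₀
  have hext : Extends e Q₀ Q := minusQ_extends e k a₀ b₀
  have hQ₀ : Q₀.polarBilin.Nondegenerate := hext.nondeg hQ
  set γ := gAut Q (fEl (minus_fixes ha hb))
  have hmap : ∀ h : ↥(Cfsg.Omega K ⇑Q₀), hext.mapO (h : O Q₀) ∈ Cfsg.Omega F ⇑Q := fun h =>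
    (show (commutator (O Q₀)).map hext.mapO ≤ commutator (O Q) by
      rw [_root_.commutator_def, Subgroup.map_commutator]
      exact Subgroup.commutator_mono le_top le_top) ⟨_, h.2, rfl⟩
  have hfix : ∀ h : ↥(Cfsg.Omega K ⇑Q₀), (QuotientGroup.mk ⟨hext.mapO (h : O Q₀), hmap h⟩ : Cfsg.POmega F ⇑Q) ∈
      fixedPts γ := fun h => by
    show γ _ = _
    refine (gAut_mk _ _).trans (congrArg _ (Subtype.ext (Subtype.ext (Units.ext (Matrix.ext fun i j => ?_)))))
    show (((conjO Q (fEl _) (hext.mapO (h : O Q₀)) : O Q) : GL (MI k) F)).val i j = _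
    rw [conjO_coe, fEl_left, fEl_right, inv_one, mul_one, one_mul]
    exact CfsgLib.FieldGalois.mem_fixedSub.1 ((((h : O Q₀) : GL (MI k) K)).val i j).2
  let f : ↥(Cfsg.Omega K ⇑Q₀) →* fixedPts γ :=
    { toFun := fun h => ⟨_, hfix h⟩
      map_one' := Subtype.ext (congrArg QuotientGroup.mk (Subtype.ext (map_one hext.mapO)))
      map_mul' := fun h h' => Subtype.ext (congrArg QuotientGroup.mk (Subtype.ext (map_mul hext.mapO _ _))) }
  set φ := conjO Q (fEl (minus_fixes ha hb)) with hφdef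
  have hrat : ∀ x : O Q, φ x = x → ∀ i j, σ (((x : GL (MI k) F)).val i j) = ((x : GL (MI k) F)).val i j := by
    intro x hx i j
    have e := congrArg (fun y : O Q => ((y : GL (MI k) F)).val i j) hx
    simp only [hφdef, conjO_coe, fEl_left, fEl_right, inv_one, mul_one, one_mul] at e
    exact e
  have hexists : ∀ x : O Q, φ x = x → ∃ g : O Q₀, hext.mapO g = x := fun x hx =>
    hext.exists_mapO x fun i j => ⟨⟨_, CfsgLib.FieldGalois.mem_fixedSub.2 (hrat x hx i j)⟩, rfl⟩
  have hφmap : ∀ g : O Q₀, φ (hext.mapO g) = hext.mapO g := fun g => by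
    refine Subtype.ext (Units.ext (Matrix.ext fun i j => ?_))
    rw [hφdef, conjO_coe, fEl_left, fEl_right, inv_one, mul_one, one_mul]
    exact CfsgLib.FieldGalois.mem_fixedSub.1 (((g : GL (MI k) K)).val i j).2
  have hnorm : f.range.Normal := by
    refine ⟨?_⟩
    rintro _ ⟨h, rfl⟩ ⟨z, hz⟩
    obtain ⟨s, rfl⟩ := QuotientGroup.mk_surjective z
    obtain ⟨c, hc, hcs⟩ : ∃ c ∈ Subgroup.center ↥(Cfsg.Omega F ⇑Q), commAut (O Q) φ s = s * c := by
      have h' : γ (QuotientGroup.mk s) = QuotientGroup.mk s := hz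
      rw [gAut_mk] at h'
      exact ⟨s⁻¹ * _, QuotientGroup.eq.1 h'.symm, (mul_inv_cancel_left s _).symm⟩
    obtain ⟨d, -, hd⟩ := central_scalar hQ hn (minusData (k := k) (by omega) _ _) hc
    have hcomm : ∀ x : O Q, (c : O Q) * x = x * (c : O Q) := fun x => ext_app fun v => by
      rw [app_mul, app_mul, hd, hd, map_smul]
    have hs : φ (s : O Q) = (s : O Q) * (c : O Q) := congrArg Subtype.val hcs
    have hcj : ∀ x : O Q₀, φ ((s : O Q) * hext.mapO x * (s : O Q)⁻¹) = (s : O Q) * hext.mapO x * (s : O Q)⁻¹ := by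
      intro x
      rw [map_mul, map_mul, map_inv, hφmap, hs, mul_assoc (s : O Q), hcomm, _root_.mul_inv_rev]
      group
    choose ψ hψ using fun x => hexists _ (hcj x)
    let Ψ : O Q₀ →* O Q₀ :=
      { toFun := ψ
        map_one' := hext.mapO_injective (by rw [hψ, map_one, mul_one, mul_inv_cancel])
        map_mul' := fun x y => hext.mapO_injective (by rw [map_mul, hψ, hψ, hψ, map_mul]; group) }
    have hΨ : ψ h ∈ Cfsg.Omega K ⇑Q₀ :=
      (show (commutator (O Q₀)).map Ψ ≤ commutator (O Q₀) by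
        rw [_root_.commutator_def, Subgroup.map_commutator]
        exact Subgroup.commutator_mono le_top le_top) ⟨_, h.2, rfl⟩
    refine ⟨⟨ψ h, hΨ⟩, Subtype.ext ?_⟩
    exact congrArg QuotientGroup.mk (Subtype.ext (hψ h) :
      (⟨hext.mapO (ψ h), hmap ⟨ψ h, hΨ⟩⟩ : ↥(Cfsg.Omega F ⇑Q)) = s * ⟨hext.mapO (h : O Q₀), hmap h⟩ * s⁻¹)
  set N := Cfsg.pPrimeCore p (fixedPts γ)
  have hNn : N.Normal := Cfsg.pPrimeCore_normal p _
  have hcop : Nat.Coprime p (Nat.card N) := by
    have := CfsgLib.PCore.pPrimeCore_coprime (p := p) (G := fixedPts γ)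
    first | exact this | exact this.symm
  have hW : p ∣ Nat.card f.range := by
    rcases hp.out.eq_two_or_odd' with hp2 | hpodd
    · subst hp2
      have h20 : (2 : K) ≠ 0 := fun h => h2p rfl (by rw [← map_ofNat e 2, h, map_zero])
      obtain ⟨h, hh, hh2, hns⟩ := exists_involution (a := a₀) (b := b₀) hk h20
      have hne : f ⟨h, hh⟩ ≠ 1 := fun h1 => by
        have := (QuotientGroup.eq_one_iff _).1 (congrArg Subtype.val h1 :)
        obtain ⟨c, -, hc⟩ := central_scalar hQ hn (minusData (k := k) (by omega) _ _) this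
        set v : MI k → K := bx K k (⟨0, by omega⟩, true)
        obtain ⟨d, hd⟩ : ∃ d : K, e d = c := by
          refine ⟨app h v (Sum.inl (Sum.inl ⟨0, by omega⟩)), ?_⟩
          have e1 := congrFun (hc (⇑e ∘ v)) (Sum.inl (Sum.inl ⟨0, by omega⟩))
          change app (hext.mapO h) (⇑e ∘ v) _ = _ at e1
          rw [hext.app_mapO, Function.comp_apply] at e1
          rw [e1]
          simp [v, bx]
        refine hns d fun w => funext fun i => e.injective ?_
        have e1 := congrFun (hc (⇑e ∘ w)) i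
        change app (hext.mapO h) (⇑e ∘ w) _ = _ at e1
        rw [hext.app_mapO, Function.comp_apply] at e1
        rw [e1, Pi.smul_apply, Pi.smul_apply, smul_eq_mul, smul_eq_mul, map_mul, hd, Function.comp_apply]
      have h2 : orderOf (⟨f ⟨h, hh⟩, ⟨_, rfl⟩⟩ : f.range) = 2 :=
        orderOf_eq_prime (Subtype.ext (by
          show f ⟨h, hh⟩ ^ 2 = 1
          rw [← map_pow, pow_two, show (⟨h, hh⟩ * ⟨h, hh⟩ : ↥(Cfsg.Omega K ⇑Q₀)) = 1 from Subtype.ext hh2,
            map_one])) fun e => hne (congrArg Subtype.val e)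
      exact (dvd_of_eq h2.symm).trans (orderOf_dvd_natCard _)
    obtain ⟨z, hz⟩ := exists_prime_orderOf_dvd_card' p (hdvd hpodd)
    obtain ⟨s, g, hs, hg⟩ : ∃ (s : ↥(Cfsg.Omega F ⇑Q)) (g : O Q₀),
        (QuotientGroup.mk s : Cfsg.POmega F ⇑Q) = z.1 ∧ hext.mapO g = (s : O Q) := by
      obtain ⟨s, hs⟩ := QuotientGroup.mk_surjective z.1
      obtain ⟨g, hg⟩ := hext.exists_mapO (s : O Q) fun i j => ⟨⟨_, CfsgLib.FieldGalois.mem_fixedSub.2
        (fix_rational hk hab ha hb hpodd hσ (hs ▸ z.2) i j)⟩, rfl⟩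
      exact ⟨s, g, hs, hg⟩
    have h2 : z * z ∈ f.range :=
      ⟨⟨g * g, sq_mem_omega (reflClosure_eq_top hQ₀ (Or.inr (by simp; omega))) g⟩, Subtype.ext (by
      show (QuotientGroup.mk _ : Cfsg.POmega F ⇑Q) = z.1 * z.1
      rw [← hs]
      refine congrArg QuotientGroup.mk (Subtype.ext ?_)
      show hext.mapO (g * g) = (s : O Q) * (s : O Q)
      rw [map_mul, hg])⟩
    have hzm : z ∈ f.range := by
      obtain ⟨j, hj⟩ := hpodd
      have : z = (z * z) ^ (j + 1) := by
        rw [← pow_two, ← pow_mul, show 2 * (j + 1) = p + 1 by omega, pow_succ, ← hz, pow_orderOf_eq_one, one_mul]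
      rw [this]; exact pow_mem h2 _
    rw [← hz, ← Subgroup.orderOf_mk (a := z) hzm]
    exact orderOf_dvd_natCard _
  have hint : ∀ h, f h ∈ N → f h = 1 := by
    rcases @CfsgLib.POmega.normal_le_center_or_top _ _ _ _ _ _ hQ₀ _ hn7 (N.comap f) (hNn.comap f) with hle | htop
    · intro h hh
      obtain ⟨c, -, hc⟩ := CfsgLib.POmega.center_scalar hQ₀ hn7 (hle (show h ∈ N.comap f from hh))
      exact Subtype.ext ((QuotientGroup.eq_one_iff _).2
        (CfsgLib.POmega.mem_center_of_scalar fun v => mapO_scalar hext hc v))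
    · exfalso
      have : Nat.card f.range ∣ Nat.card N := Subgroup.card_dvd_of_le fun x hx => by
        obtain ⟨h, rfl⟩ := hx
        exact (show h ∈ N.comap f by rw [htop]; exact Subgroup.mem_top h)
      exact hp.out.coprime_iff_not_dvd.1 hcop (hW.trans this)
  rw [eq_bot_iff]
  intro n hnN
  rw [Subgroup.mem_bot]
  have hcw : ∀ h, n * f h = f h * n := fun h => by
    obtain ⟨h', hh'⟩ := hnorm.conj_mem (f h) ⟨h, rfl⟩ n
    have hm : f (h' * h⁻¹) ∈ N := by
      rw [map_mul, map_inv, hh', show n * f h * n⁻¹ * (f h)⁻¹ = n * (f h * n⁻¹ * (f h)⁻¹) by group]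
      exact N.mul_mem hnN (hNn.conj_mem _ (N.inv_mem hnN) _)
    have h1 := hint _ hm
    rw [map_mul, map_inv, hh', mul_inv_eq_one, mul_inv_eq_iff_eq_mul] at h1
    exact h1
  obtain ⟨s, hs⟩ := QuotientGroup.mk_surjective n.1
  have hu : gAut Q (omegaIn Q s) ∈ Subgroup.zpowers γ := by
    refine eq_zpow_of_fix hk hab ha hb (omegaIn Q s) fun u c hm hu hc hur hcr => ?_
    obtain ⟨u₀, rfl⟩ : ∃ u₀ : MI k → K, ⇑e ∘ u₀ = u :=
      ⟨fun i => ⟨u i, CfsgLib.FieldGalois.mem_fixedSub.2 (congrFun hur i)⟩, rfl⟩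
    obtain ⟨c₀, rfl⟩ : ∃ c₀ : MI k → K, ⇑e ∘ c₀ = c :=
      ⟨fun i => ⟨c i, CfsgLib.FieldGalois.mem_fixedSub.2 (congrFun hcr i)⟩, rfl⟩
    have hu₀ : Q₀ u₀ = 0 := e.injective (by rw [← hext, hu, map_zero])
    have hc₀ : polar Q₀ u₀ c₀ = 0 := e.injective (by rw [← hext.polar_comp, hc, map_zero])
    set h0 : ↥(Cfsg.Omega K ⇑Q₀) := ⟨eich Q₀ u₀ c₀, eich_mem_omega hQ₀ hn hu₀ hc₀⟩
    have hf0 : (f h0).1 = QuotientGroup.mk ⟨eich Q (⇑e ∘ u₀) (⇑e ∘ c₀), hm⟩ :=
      congrArg QuotientGroup.mk (Subtype.ext (mapO_eich hext hu₀ hc₀))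
    rw [gAut_omegaIn, hs, ← hf0, MulAut.conj_apply]
    rw [show n.1 * (f h0).1 = (f h0).1 * n.1 from congrArg Subtype.val (hcw h0), mul_inv_cancel_right]
  obtain ⟨j, hj⟩ := hu
  have hj' : gAut Q (omegaIn Q s * (fEl (minus_fixes ha hb) ^ j)⁻¹) = 1 := by
    rw [map_mul, map_inv, map_zpow]
    exact mul_inv_eq_one.2 hj.symm
  obtain ⟨hr, -⟩ := gAut_eq_one hQ hn (minusData (k := k) (by omega) _ _) hj'
  have hσj : σ ^ j = 1 := by
    rw [Subgroup.coe_mul, InvMemClass.coe_inv, fEl_zpow, SemidirectProduct.mul_right,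
      SemidirectProduct.inv_right, SemidirectProduct.right_inr] at hr
    have h1 : (omegaIn Q s).1.right = 1 := rfl
    rw [h1, one_mul, inv_eq_one] at hr
    exact hr
  have hfj : fEl (minus_fixes (k := k) ha hb) ^ j = 1 := Subtype.ext (by
    rw [fEl_zpow, hσj, map_one]; rfl)
  rw [hfj, inv_one, mul_one, gAut_omegaIn, hs] at hj'
  exact Subtype.ext (conj_injective_of_hyp hQ hn (minusData (k := k) (by omega) _ _) (hj'.trans (map_one _).symm))

/-- An involutory field automorphism fixes a group of even order. -/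
theorem two_dvd_fixed (h2 : (2 : F) ≠ 0) (hσ : σ ^ 2 = 1) :
    2 ∣ Nat.card (fixedPts (gAut (minusQ k F a b) (fEl (minus_fixes ha hb)))) := by
  have : Fact (Nat.Prime 2) := ⟨Nat.prime_two⟩
  by_contra hd
  have hcore := core_fixed hk hab ha hb (p := 2) (fun _ => h2) hσ fun h => absurd h (by decide)
  have hle := CfsgLib.PCore.le_pPrimeCore (p := 2) (N := (⊤ : Subgroup (fixedPts (gAut (minusQ k F a b)
    (fEl (minus_fixes ha hb)))))) inferInstance
    (by rw [Subgroup.card_top]; exact ((Nat.prime_two.coprime_iff_not_dvd).2 hd).symm)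
  rw [hcore, le_bot_iff] at hle
  obtain ⟨z, hz1, hz⟩ := exists_fixed_ne_one hk hab ha hb
  exact hz1 (congrArg Subtype.val (show (⟨z, hz⟩ : fixedPts (gAut (minusQ k F a b) (fEl (minus_fixes ha hb)))) = 1
    from Subgroup.mem_bot.1 (hle ▸ Subgroup.mem_top _)))

end Minus

end CfsgLib.POmegaBal
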