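import Cfsg.Agent.Lib.AutPOmega.FieldMinusMain
import Cfsg.Agent.Lib.AutPSL.BalanceCore

/-!
Automorphisms fixing the rational Siegel elements of a standard field automorphism of minus type.
-/

set_option autoImplicit false
set_option linter.unusedSectionVars false

namespace CfsgLib.POmegaBal

open Matrix QuadraticMap CfsgLib.Orth CfsgLib.AutBalance Cfsg.Agent.GammaO57 CfsgLib.FieldPOmega

section General

variable {F : Type*} [Field F] [Fintype F] {ι : Type} [Fintype ι] [DecidableEq ι]
  {Q : QuadraticForm F (ι → F)}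

/-- A semisimilarity fixing the class of a Siegel element commutes with it. -/
theorem comm_of_fix (hQ : Q.polarBilin.Nondegenerate) (hn : 5 ≤ Fintype.card ι) (d : HypData Q)
    (x : ↥(semiGroup Q)) {u a : ι → F} (hu : Q u = 0) (ha : polar Q u a = 0) (hu0 : u ≠ 0)
    (h : gAut Q x (QuotientGroup.mk ⟨eich Q u a, eich_mem_omega hQ hn hu ha⟩) =
      QuotientGroup.mk ⟨eich Q u a, eich_mem_omega hQ hn hu ha⟩) (v : ι → F) :
    semi x.1 (app (eich Q u a) v) = app (eich Q u a) (semi x.1 v) := by
  set s : ↥(Cfsg.Omega F ⇑Q) := ⟨eich Q u a, eich_mem_omega hQ hn hu ha⟩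
  obtain ⟨z, hz, hzs⟩ : ∃ z ∈ Subgroup.center ↥(Cfsg.Omega F ⇑Q),
      commAut (O Q) (conjO Q x) s = s * z := by
    rw [gAut_mk] at h
    exact ⟨s⁻¹ * _, QuotientGroup.eq.1 h.symm, (mul_inv_cancel_left s _).symm⟩
  obtain ⟨c, hc2, hc⟩ := central_scalar hQ hn d hz
  have key : ∀ w, semi x.1 (app (eich Q u a) w) = c • app (eich Q u a) (semi x.1 w) := by
    intro w
    rw [← semi_app_conj]
    show app ((commAut (O Q) (conjO Q x) s : ↥(Cfsg.Omega F ⇑Q)) : O Q) _ = _
    rw [hzs, Subgroup.coe_mul, app_mul, hc, map_smul]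
  suffices hc1 : c = 1 by rw [key, hc1, one_smul]
  rcases mul_self_eq_one_iff.1 hc2 with h1 | h1
  · exact h1
  by_cases h2 : (2 : F) = 0
  · rw [h1]; linear_combination -h2
  exfalso
  have huu : polar Q u u = 0 := by rw [polar_self', hu, mul_zero]
  have hfix : app (eich Q u a) u = u := by rw [app_eich hu ha, huu, ha]; simp
  set y := semi x.1 u
  have hy0 : y ≠ 0 := fun h0 => hu0 (by
    have h00 : semi x.1⁻¹ (0 : ι → F) = 0 := by simpa using semi_add x.1⁻¹ 0 0
    rw [← semi_inv_semi x.1 u, show semi x.1 u = 0 from h0, h00])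
  have hy : app (eich Q u a) y = -y := by
    have h3 := key u
    rw [hfix, h1, neg_one_smul] at h3
    exact (neg_eq_iff_eq_neg.2 h3).symm
  have hyu : polar Q y u = 0 := by
    have h3 := polar_app (eich Q u a) y u
    rw [hfix, hy, polar_neg_left] at h3
    have : (2 : F) * polar Q y u = 0 := by linear_combination -h3
    exact (mul_eq_zero.1 this).resolve_left h2
  have h4 : (2 : F) • y = polar Q y a • u := by
    rw [app_eich hu ha, hyu, zero_smul, mul_zero, sub_zero, add_zero] at hy
    rw [two_smul]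
    linear_combination (norm := module) hy
  have h5 : app (eich Q u a) y = y := by
    rw [← inv_smul_smul₀ h2 y, h4, map_smul, map_smul, hfix]
  rw [h5, eq_neg_iff_add_eq_zero, ← two_smul F, smul_eq_zero] at hy
  exact hy.elim h2 hy0

/-- The equation from one fixed Siegel element. -/
theorem eich_eqn (hQ : Q.polarBilin.Nondegenerate) (hn : 5 ≤ Fintype.card ι) (d : HypData Q)
    (x : ↥(semiGroup Q)) {u c v : ι → F} (hu : Q u = 0) (hc : polar Q u c = 0) (hu0 : u ≠ 0)
    (hm : eich Q u c ∈ Cfsg.Omega F ⇑Q)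
    (h : gAut Q x (QuotientGroup.mk ⟨eich Q u c, hm⟩) = QuotientGroup.mk ⟨eich Q u c, hm⟩)
    (hv : polar Q v u = 0) :
    -(x.1.right (polar Q v c)) • semi x.1 u = polar Q (semi x.1 v) u • c +
      (-(polar Q (semi x.1 v) c) - Q c * polar Q (semi x.1 v) u) • u := by
  have hh := comm_of_fix hQ hn d x hu hc hu0 h v
  rw [app_eich hu hc, app_eich hu hc, hv, zero_smul, add_zero, mul_zero, sub_zero, semi_add,
    semi_smul, map_neg, add_assoc] at hh
  exact add_left_cancel hh

theorem eq_zero_of_basis (hQ : Q.polarBilin.Nondegenerate) {z : ι → F}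
    (h : ∀ t, polar Q z (Pi.single t 1) = 0) : z = 0 := by
  refine hQ.1 z fun v => ?_
  have e : Q.polarBilin z = 0 := LinearMap.pi_ext' fun t => LinearMap.ext_ring (h t)
  rw [e]; rfl

theorem rat_single (σ : F ≃+* F) (t : ι) : ⇑σ ∘ (Pi.single t 1 : ι → F) = Pi.single t 1 := by
  funext j; simp [Pi.single_apply, apply_ite σ]

theorem fEl_zpow {σ : F ≃+* F} (hσ : Fixes σ Q) (j : ℤ) :
    ((fEl hσ) ^ j).1 = SemidirectProduct.inr (σ ^ j) := by
  rw [SubgroupClass.coe_zpow]
  exact (map_zpow (SemidirectProduct.inr (φ := glAut ι F)) σ j).symm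

end General

section Minus

variable {F : Type*} [Field F] [Fintype F] {k : ℕ} {a b : F}

/-- The hyperbolic basis vectors. -/
def bx (F : Type*) [Field F] (k : ℕ) (i : Fin k × Bool) : MI k → F :=
  Pi.single (Sum.inl (if i.2 then Sum.inl i.1 else Sum.inr i.1)) 1

/-- The basis of the anisotropic plane. -/
def bz (F : Type*) [Field F] (k : ℕ) (j : Fin 2) : MI k → F := Pi.single (Sum.inr j) 1

theorem Q_bx (i : Fin k × Bool) : minusQ k F a b (bx F k i) = 0 := by
  obtain ⟨i, c⟩ := i
  cases c <;> simp [bx, minusQ_coe, Cfsg.quadFormMinus, Pi.single_apply]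

theorem polar_bx (i j : Fin k × Bool) :
    polar (minusQ k F a b) (bx F k i) (bx F k j) = if j = (i.1, !i.2) then 1 else 0 := by
  obtain ⟨i, c⟩ := i
  obtain ⟨j, d⟩ := j
  rw [polar_minusQ]
  cases c <;> cases d <;> simp [bx, Pi.single_apply, eq_comm]

theorem polar_bx_bz (i : Fin k × Bool) (j : Fin 2) : polar (minusQ k F a b) (bx F k i) (bz F k j) = 0 := by
  obtain ⟨i, c⟩ := i
  rw [polar_minusQ]
  cases c <;> simp [bx, bz, Pi.single_apply]

theorem polar_bz_fixed {σ : F ≃+* F} (ha : σ a = a) (hb : σ b = b) (i j : Fin 2) :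
    σ (polar (minusQ k F a b) (bz F k i) (bz F k j)) = polar (minusQ k F a b) (bz F k i) (bz F k j) := by
  rw [polar_minusQ]
  simp [bz, Pi.single_apply, ha, hb, apply_ite σ, map_ofNat]

theorem bx_ne (i : Fin k × Bool) : bx F k i ≠ 0 := fun h => by
  have := congrFun h (Sum.inl (if i.2 then Sum.inl i.1 else Sum.inr i.1))
  simp [bx] at this

variable (hk : 3 ≤ k) (hab : (minusQ k F a b).polarBilin.Nondegenerate) {σ : F ≃+* F} (ha : σ a = a) (hb : σ b = b)
include hk hab ha hb

/-- A semilinear map satisfying the equations of the rational Siegel elements is a scalar on the basis. -/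
theorem scalar_of_eqn (L : (MI k → F) → (MI k → F)) (τ : F ≃+* F) (hL0 : L 0 = 0) (hinj : Function.Injective L)
    (E : ∀ (i : Fin k × Bool) (c v : MI k → F), polar (minusQ k F a b) (bx F k i) c = 0 → ⇑σ ∘ c = c →
      polar (minusQ k F a b) v (bx F k i) = 0 →
      -(τ (polar (minusQ k F a b) v c)) • L (bx F k i) = polar (minusQ k F a b) (L v) (bx F k i) • c +
        (-(polar (minusQ k F a b) (L v) c) - minusQ k F a b c * polar (minusQ k F a b) (L v) (bx F k i)) •
          bx F k i) :
    ∃ l : F, l ≠ 0 ∧ (∀ t, σ t = t → τ t = t) ∧ ∀ t, L (Pi.single t 1) = l • (Pi.single t 1 : MI k → F) := by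
  classical
  set Q := minusQ k F a b with hQdef
  have hQ : Q.polarBilin.Nondegenerate := hab
  have rx : ∀ i, ⇑σ ∘ bx F k i = bx F k i := fun i => rat_single σ _
  have rz : ∀ j, ⇑σ ∘ bz F k j = bz F k j := fun j => rat_single σ _
  have rs : ∀ (t : F) (v : MI k → F), σ t = t → ⇑σ ∘ v = v → ⇑σ ∘ (t • v) = t • v := fun t v ht hv => by
    funext i
    show σ (t * v i) = t * v i
    rw [map_mul, ht, show σ (v i) = v i from congrFun hv i]
  have other : ∀ i : Fin k × Bool, ∃ j : Fin k × Bool, j.1 ≠ i.1 := fun i => by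
    obtain ⟨n, hn⟩ := Fintype.exists_ne_of_one_lt_card (by simp; omega : 1 < Fintype.card (Fin k)) i.1
    exact ⟨(n, true), hn⟩
  have pne : ∀ i j : Fin k × Bool, j.1 ≠ i.1 → polar Q (bx F k i) (bx F k j) = 0 := fun i j hij => by
    rw [polar_bx, if_neg fun e => hij (by rw [e])]
  have puu : ∀ i : Fin k × Bool, polar Q (bx F k i) (bx F k i) = 0 := fun i => by
    rw [polar_bx, if_neg]
    intro e
    have := congrArg Prod.snd e
    simp at this
  -- the frame vectors are eigenvectors
  have hl : ∀ i, ∃ l : F, L (bx F k i) = l • bx F k i := by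
    intro i
    have h0 : ∀ c, polar Q (bx F k i) c = 0 → ⇑σ ∘ c = c →
        (0 : MI k → F) = polar Q (L (bx F k i)) (bx F k i) • c +
          (-(polar Q (L (bx F k i)) c) - Q c * polar Q (L (bx F k i)) (bx F k i)) • bx F k i := by
      intro c hc hcr
      have := E i c (bx F k i) hc hcr (puu i)
      rwa [hc, map_zero, neg_zero, zero_smul] at this
    obtain ⟨j, hj⟩ := other i
    have hLu : polar Q (L (bx F k i)) (bx F k i) = 0 := by
      have h1 := congrFun (h0 (bx F k j) (pne i j hj) (rx j)) (Sum.inl (if j.2 then Sum.inl j.1 else Sum.inr j.1))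
      have hne : bx F k i (Sum.inl (if j.2 then Sum.inl j.1 else Sum.inr j.1)) = 0 := by
        refine Pi.single_eq_of_ne (fun e => hj ?_) 1
        have e' := Sum.inl_injective e
        obtain ⟨i1, c⟩ := i
        obtain ⟨j1, d⟩ := j
        cases c <;> cases d <;> simp only [if_true, if_false, Bool.false_eq_true, Sum.inl.injEq, Sum.inr.injEq,
          reduceCtorEq] at e' <;> exact e'.symm ▸ rfl
      have hone : bx F k j (Sum.inl (if j.2 then Sum.inl j.1 else Sum.inr j.1)) = 1 := by simp [bx]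
      simp only [Pi.zero_apply, Pi.add_apply, Pi.smul_apply, smul_eq_mul, hne, hone, mul_zero, add_zero,
        mul_one] at h1
      exact h1.symm
    have hperp : ∀ c, polar Q (bx F k i) c = 0 → ⇑σ ∘ c = c → polar Q (L (bx F k i)) c = 0 := by
      intro c hc hcr
      have h1 := h0 c hc hcr
      rw [hLu, zero_smul, zero_add, mul_zero, sub_zero] at h1
      exact neg_eq_zero.1 ((smul_eq_zero.1 h1.symm).resolve_right (bx_ne i))
    refine ⟨polar Q (L (bx F k i)) (bx F k (i.1, !i.2)), sub_eq_zero.1 (eq_zero_of_basis hQ fun t => ?_)⟩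
    rw [polar_sub_left, polar_smul_left, smul_eq_mul]
    obtain ⟨l, hl⟩ | ⟨j, rfl⟩ : (∃ l, t = Sum.inl l) ∨ ∃ j, t = Sum.inr j := by cases t <;> simp
    · obtain ⟨j, rfl⟩ : ∃ j : Fin k × Bool, l = if j.2 then Sum.inl j.1 else Sum.inr j.1 := by
        rcases l with l | l
        · exact ⟨(l, true), rfl⟩
        · exact ⟨(l, false), rfl⟩
      subst hl
      change polar Q (L (bx F k i)) (bx F k j) - _ * polar Q (bx F k i) (bx F k j) = 0
      by_cases hjj : j = (i.1, !i.2)
      · rw [hjj, polar_bx, if_pos rfl, mul_one, sub_self]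
      · have hz : polar Q (bx F k i) (bx F k j) = 0 := by rw [polar_bx, if_neg hjj]
        rw [hz, hperp _ hz (rx j), mul_zero, sub_zero]
    · change polar Q (L (bx F k i)) (bz F k j) - _ * polar Q (bx F k i) (bz F k j) = 0
      rw [polar_bx_bz, hperp _ (polar_bx_bz i j) (rz j), mul_zero, sub_zero]
  choose l hl using hl
  have hstep : ∀ i j : Fin k × Bool, j.1 ≠ i.1 → ∀ t, σ t = t → τ t * l i = t * l j := by
    intro i j hij t ht
    have hc : polar Q (bx F k i) (t • bx F k (j.1, !j.2)) = 0 := by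
      rw [polar_smul_right, pne i (j.1, !j.2) hij, smul_zero]
    have hv : polar Q (bx F k j) (bx F k i) = 0 := by rw [polar_comm]; exact pne i j hij
    have h1 := E i _ _ hc (rs _ _ ht (rx _)) hv
    rw [hl, hl, polar_smul_right, polar_bx, if_pos rfl, smul_eq_mul, mul_one, polar_smul_left, hv, smul_zero,
      zero_smul, zero_add, mul_zero, sub_zero, polar_smul_left, polar_smul_right, polar_bx, if_pos rfl,
      smul_eq_mul, smul_eq_mul, mul_one, smul_smul] at h1
    have h2 := smul_left_injective F (bx_ne (F := F) i) h1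
    linear_combination -h2
  have h1t : ∀ i j : Fin k × Bool, j.1 ≠ i.1 → l i = l j := fun i j hij => by
    simpa using hstep i j hij 1 (map_one σ)
  set i0 : Fin k × Bool := (⟨0, by omega⟩, true)
  set l0 := l i0
  have hall : ∀ i, l i = l0 := by
    intro i
    by_cases hi : i.1 = i0.1
    · obtain ⟨j, hj⟩ := other i
      rw [h1t i j hj, h1t j i0 (by rw [← hi]; exact hj.symm)]
    · exact h1t i i0 (fun e => hi e.symm)
  have hl0 : l0 ≠ 0 := fun e => bx_ne (F := F) i0 (hinj (by
    rw [hl, show l i0 = 0 from e, zero_smul, hL0]))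
  have hτK : ∀ t, σ t = t → τ t = t := fun t ht => by
    obtain ⟨j, hj⟩ := other i0
    have := hstep i0 j hj t ht
    rw [← h1t i0 j hj] at this
    exact mul_right_cancel₀ hl0 this
  have hz : ∀ j, L (bz F k j) = l0 • bz F k j := by
    intro j
    have main : ∀ (i : Fin k × Bool) (j' : Fin 2), polar Q (L (bz F k j)) (bx F k i) = 0 ∧
        polar Q (L (bz F k j)) (bz F k j') = l0 * polar Q (bz F k j) (bz F k j') := by
      intro i j'
      have hv : polar Q (bz F k j) (bx F k i) = 0 := by rw [polar_comm]; exact polar_bx_bz i j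
      have h1 := E i (bz F k j') (bz F k j) (polar_bx_bz i j') (rz j') hv
      rw [hτK _ (polar_bz_fixed ha hb j j'), hl, hall, smul_smul] at h1
      have e1 := congrFun h1 (Sum.inr j')
      have hne : bx F k i (Sum.inr j') = 0 := by simp [bx, Pi.single_apply]
      have hone : bz F k j' (Sum.inr j') = 1 := by simp [bz]
      simp only [Pi.add_apply, Pi.smul_apply, smul_eq_mul, hne, hone, mul_zero, add_zero, mul_one] at e1
      refine ⟨e1.symm, ?_⟩
      rw [← e1, zero_smul, zero_add, mul_zero, sub_zero] at h1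
      have := smul_left_injective F (bx_ne (F := F) i) h1
      linear_combination this
    refine sub_eq_zero.1 (eq_zero_of_basis hQ fun t => ?_)
    rw [polar_sub_left, polar_smul_left, smul_eq_mul]
    obtain ⟨l', hl'⟩ | ⟨j', rfl⟩ : (∃ l, t = Sum.inl l) ∨ ∃ j, t = Sum.inr j := by cases t <;> simp
    · obtain ⟨i, rfl⟩ : ∃ i : Fin k × Bool, l' = if i.2 then Sum.inl i.1 else Sum.inr i.1 := by
        rcases l' with l' | l'
        · exact ⟨(l', true), rfl⟩
        · exact ⟨(l', false), rfl⟩
      subst hl'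
      change polar Q (L (bz F k j)) (bx F k i) - _ * polar Q (bz F k j) (bx F k i) = 0
      rw [(main i 0).1, polar_comm, polar_bx_bz, mul_zero, sub_zero]
    · exact sub_eq_zero.2 (main i0 j').2
  have hsingle : ∀ t, L (Pi.single t 1) = l0 • (Pi.single t 1 : MI k → F) := by
    rintro ((t | t) | t)
    · exact (hl (t, true)).trans (by rw [hall]; rfl)
    · exact (hl (t, false)).trans (by rw [hall]; rfl)
    · exact hz t
  exact ⟨l0, hl0, hτK, hsingle⟩

/-- An automorphism fixing the rational Siegel elements is a power of the field automorphism. -/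
theorem eq_zpow_of_fix (y : ↥(semiGroup (minusQ k F a b)))
    (h : ∀ (u c : MI k → F) (hm : eich (minusQ k F a b) u c ∈ Cfsg.Omega F ⇑(minusQ k F a b)),
      minusQ k F a b u = 0 → polar (minusQ k F a b) u c = 0 → ⇑σ ∘ u = u → ⇑σ ∘ c = c →
      gAut (minusQ k F a b) y (QuotientGroup.mk ⟨eich (minusQ k F a b) u c, hm⟩) =
        QuotientGroup.mk ⟨eich (minusQ k F a b) u c, hm⟩) :
    gAut (minusQ k F a b) y ∈ Subgroup.zpowers (gAut (minusQ k F a b) (fEl (minus_fixes ha hb))) := by
  have hQ : (minusQ k F a b).polarBilin.Nondegenerate := hab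
  have hn : 5 ≤ Fintype.card (MI k) := card_MI (k := k) (by omega)
  have d : HypData (minusQ k F a b) := minusData (k := k) (by omega) a b
  obtain ⟨l0, hl0, hτK, hsingle⟩ := scalar_of_eqn (a := a) (b := b) hk hab ha hb (semi y.1) y.1.right
    (by simpa using semi_smul y.1 0 (0 : MI k → F))
    (fun v w e => by rw [← semi_inv_semi y.1 v, ← semi_inv_semi y.1 w]; exact congrArg _ e)
    (fun i c v hc hcr hv => eich_eqn hQ hn d y (Q_bx i) hc (bx_ne i) (eich_mem_omega hQ hn (Q_bx i) hc)
      (h _ c _ (Q_bx i) hc (rat_single σ _) hcr) hv)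
  obtain ⟨n, hn'⟩ := mem_zpowers_of_fixed hτK
  refine ⟨n, ?_⟩
  show gAut (minusQ k F a b) (fEl _) ^ n = gAut (minusQ k F a b) y
  have hy : y = scIn (minusQ k F a b) (Units.mk0 l0 hl0) * fEl (minus_fixes ha hb) ^ n := by
    apply Subtype.ext
    rw [Subgroup.coe_mul, fEl_zpow]
    refine SemidirectProduct.ext (Units.ext (Matrix.ext_of_mulVec_single fun t => ?_)) ?_
    · have h1 := hsingle t
      rw [Cfsg.Agent.GammaO57.semi, rat_single] at h1
      rw [SemidirectProduct.mul_left, SemidirectProduct.left_inr, map_one, mul_one]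
      show _ = ((GeneralLinearGroup.scalar (MI k) (Units.mk0 l0 hl0) : GL (MI k) F) : Matrix (MI k) (MI k) F) *ᵥ _
      rw [CfsgLib.FieldPOmega.scalar_mulVec]
      exact h1
    · show y.1.right = 1 * σ ^ n
      rw [one_mul]; exact hn'.symm
  rw [hy, map_mul, gAut_scIn, one_mul, map_zpow]

/-- The rational Siegel elements are fixed by the field automorphism. -/
theorem fEl_fix {u c : MI k → F} (hu : minusQ k F a b u = 0) (hc : polar (minusQ k F a b) u c = 0)
    (hur : ⇑σ ∘ u = u) (hcr : ⇑σ ∘ c = c) :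
    gAut (minusQ k F a b) (fEl (minus_fixes ha hb)) (QuotientGroup.mk ⟨eich (minusQ k F a b) u c,
      eich_mem_omega hab (card_MI (by omega)) hu hc⟩) =
      QuotientGroup.mk ⟨eich (minusQ k F a b) u c,
        eich_mem_omega hab (card_MI (by omega)) hu hc⟩ := by
  rw [gAut_mk]
  refine congrArg _ (Subtype.ext (ext_app fun v => ?_))
  obtain ⟨w, rfl⟩ : ∃ w, semi (fEl (minus_fixes (k := k) ha hb)).1 w = v := ⟨_, semi_semi_inv _ v⟩
  show app (conjO _ _ (eich (minusQ k F a b) u c)) _ = app (eich (minusQ k F a b) u c) _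
  rw [semi_app_conj]
  have hs : ∀ v : MI k → F, semi (fEl (minus_fixes (k := k) ha hb)).1 v = ⇑σ ∘ v := fun v => by
    rw [Cfsg.Agent.GammaO57.semi, fEl_left, fEl_right, Units.val_one, one_mulVec]
  rw [hs, hs]
  have hfix := minus_fixes (k := k) ha hb
  have hp : ∀ v w, polar (minusQ k F a b) (⇑σ ∘ v) (⇑σ ∘ w) = σ (polar (minusQ k F a b) v w) := fun v w => by
    have e : ⇑σ ∘ v + ⇑σ ∘ w = ⇑σ ∘ (v + w) := funext fun i => by simp
    rw [QuadraticMap.polar, e, hfix, hfix, hfix, QuadraticMap.polar, map_sub, map_sub]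
  have hQc : σ (minusQ k F a b c) = minusQ k F a b c := by rw [← hfix, hcr]
  have hd : ∀ (t : F) (v : MI k → F), ⇑σ ∘ (t • v) = σ t • (⇑σ ∘ v) := fun t v => funext fun i => map_mul σ t _
  have hadd : ∀ v w : MI k → F, ⇑σ ∘ (v + w) = ⇑σ ∘ v + ⇑σ ∘ w := fun v w => funext fun i => by simp
  rw [app_eich hu hc, app_eich hu hc, hadd, hadd, hd, hd, map_sub, map_neg, map_mul, hQc, ← hp, ← hp, hur, hcr]

/-- The field automorphism has a non-trivial fixed point. -/
theorem exists_fixed_ne_one : ∃ z : Cfsg.POmega F ⇑(minusQ k F a b), z ≠ 1 ∧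
    gAut (minusQ k F a b) (fEl (minus_fixes ha hb)) z = z := by
  set i : Fin k × Bool := (⟨0, by omega⟩, true)
  set j : Fin k × Bool := (⟨1, by omega⟩, true)
  have hij : polar (minusQ k F a b) (bx F k i) (bx F k j) = 0 := by
    rw [polar_bx, if_neg (by simp [i, j])]
  have hQ : (minusQ k F a b).polarBilin.Nondegenerate := hab
  refine ⟨_, ?_, fEl_fix hk hab ha hb (Q_bx i) hij (rat_single σ _) (rat_single σ _)⟩
  intro h
  rw [QuotientGroup.eq_one_iff] at h
  obtain ⟨c, -, hc⟩ := central_scalar hQ (card_MI (by omega)) (minusData (by omega) a b) h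
  have h1 := hc (bx F k (i.1, !i.2))
  change app (eich (minusQ k F a b) (bx F k i) (bx F k j)) _ = _ at h1
  rw [app_eich (Q_bx i) hij] at h1
  have h2 := congrFun h1 (Sum.inl (Sum.inl ⟨1, by omega⟩))
  have h3 : polar (minusQ k F a b) (bx F k (i.1, !i.2)) (bx F k i) = 1 := by
    rw [polar_comm, polar_bx, if_pos rfl]
  simp [bx, i, j, Pi.single_apply] at h2 h3
  simp [h3] at h2

end Minus

end CfsgLib.POmegaBal
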