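import Mathlib

/-!
Symmetric bilinear forms over finite fields of odd characteristic: vectors moved to orthogonal ones by a
product of two reflections, semilinear maps preserving the anisotropic lines, odd groups normalised by
reflections.
-/

set_option autoImplicit false
set_option linter.unusedSectionVars false

namespace CfsgLib.POmegaBal

open LinearMap (BilinForm)

variable {k : Type*} [Field k] [Fintype k] {V : Type*} [AddCommGroup V] [Module k V] [FiniteDimensional k V]

/-- The reflection in `a`. -/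
def rfl' (B : BilinForm k V) (a x : V) : V := x - (2 * B x a / B a a) • a

/-- The data of a non-degenerate symmetric form in odd characteristic. -/
structure IsSymForm (B : BilinForm k V) : Prop where
  symm : ∀ x y, B x y = B y x
  nondeg : ∀ x, (∀ y, B x y = 0) → x = 0
  two_ne : (2 : k) ≠ 0

variable {B : BilinForm k V} (hB : IsSymForm B)
include hB

theorem rfl'_rfl' (a x : V) : rfl' B a (rfl' B a x) = x := by
  simp only [rfl', map_sub, map_smul, LinearMap.sub_apply, LinearMap.smul_apply, smul_eq_mul]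
  by_cases h : B a a = 0
  · simp [h]
  · match_scalars
    · ring
    · field_simp
      ring

theorem form_rfl' (a x y : V) : B (rfl' B a x) (rfl' B a y) = B x y := by
  simp only [rfl', map_sub, map_smul, LinearMap.sub_apply, LinearMap.smul_apply, smul_eq_mul, hB.symm a y]
  by_cases h : B a a = 0
  · simp [h]
  · field_simp; ring

theorem form_rfl'_rfl' (a e w : V) (ha : B a a ≠ 0) (he : B e e ≠ 0) :
    B (rfl' B e (rfl' B a w)) w = B w w - 2 * B w a * B w a / B a a - 2 * B w e * B w e / B e e +
      4 * B a e * B w a * B w e / (B a a * B e e) := by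
  simp only [rfl', map_sub, map_smul, LinearMap.sub_apply, LinearMap.smul_apply, smul_eq_mul, hB.symm a w,
    hB.symm e w]
  field_simp
  ring

/-- An anisotropic vector orthogonal to finitely many orthogonal anisotropic ones. -/
theorem exists_perp_aniso {j : ℕ} (f : Fin j → V) (ha : ∀ i, B (f i) (f i) ≠ 0)
    (ho : ∀ i l, i ≠ l → B (f i) (f l) = 0) (hj : j < Module.finrank k V) :
    ∃ c, (∀ i, B c (f i) = 0) ∧ B c c ≠ 0 := by
  classical
  let Φ : V →ₗ[k] (Fin j → k) := LinearMap.pi fun i => (B (f i))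
  obtain ⟨x, hx, hx0⟩ := Submodule.exists_mem_ne_zero_of_ne_bot
    (LinearMap.ker_ne_bot_of_finrank_lt (f := Φ) (by simpa using hj))
  have hxf : ∀ i, B x (f i) = 0 := fun i => by
    rw [hB.symm]; exact congrFun (LinearMap.mem_ker.1 hx) i
  obtain ⟨y, hy⟩ : ∃ y, B x y ≠ 0 := by
    by_contra h
    push Not at h
    exact hx0 (hB.nondeg x h)
  set y' := y - ∑ i, (B y (f i) / B (f i) (f i)) • f i with hy'
  have hy'f : ∀ l, B y' (f l) = 0 := fun l => by
    simp only [hy', map_sub, map_sum, map_smul, LinearMap.sub_apply, LinearMap.sum_apply,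
      LinearMap.smul_apply, smul_eq_mul]
    rw [Finset.sum_eq_single l (fun i _ hil => by rw [ho i l hil, mul_zero]) (fun h => absurd (Finset.mem_univ l) h),
      div_mul_cancel₀ _ (ha l), sub_self]
  have hxy : B x y' = B x y := by
    simp [hy', map_sub, map_sum, map_smul, hxf]
  by_cases hxx : B x x = 0
  swap
  · exact ⟨x, hxf, hxx⟩
  by_cases hyy : B y' y' = 0
  swap
  · exact ⟨y', hy'f, hyy⟩
  refine ⟨x + y', fun i => by simp [hxf i, hy'f i], ?_⟩
  simp only [map_add, LinearMap.add_apply, hB.symm y' x, hxx, hyy, hxy, zero_add, add_zero]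
  rw [← two_mul]
  exact mul_ne_zero hB.two_ne hy

theorem exists_binary_val {A D : k} (hA : A ≠ 0) (hD : D ≠ 0) (v : k) :
    ∃ s t : k, A * s ^ 2 + D * t ^ 2 = v := by
  obtain ⟨x, y, h⟩ := FiniteField.exists_root_sum_quadratic
    (f := Polynomial.C A * Polynomial.X ^ 2) (g := Polynomial.C D * Polynomial.X ^ 2 - Polynomial.C v)
    (Polynomial.degree_C_mul_X_pow 2 hA) (by
      rw [Polynomial.degree_sub_eq_left_of_degree_lt]
      · exact Polynomial.degree_C_mul_X_pow 2 hD
      · rw [Polynomial.degree_C_mul_X_pow 2 hD]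
        exact lt_of_le_of_lt Polynomial.degree_C_le (by norm_num))
    (FiniteField.odd_card_of_char_ne_two fun h => hB.two_ne (by
      have := CharP.cast_eq_zero k (ringChar k); rw [h] at this; exact_mod_cast this))
  refine ⟨x, y, ?_⟩
  simp at h
  linear_combination h

/-- A vector of given value orthogonal to finitely many orthogonal anisotropic ones. -/
theorem exists_perp_value {j : ℕ} (f : Fin j → V) (ha : ∀ i, B (f i) (f i) ≠ 0)
    (ho : ∀ i l, i ≠ l → B (f i) (f l) = 0) (hj : j + 2 ≤ Module.finrank k V) (v : k) :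
    ∃ c, (∀ i, B c (f i) = 0) ∧ B c c = v := by
  obtain ⟨c, hc, hcc⟩ := exists_perp_aniso hB f ha ho (by omega)
  obtain ⟨d, hd, hdd⟩ := exists_perp_aniso hB (Fin.cons c f) (Fin.cases hcc ha)
    (Fin.cases (Fin.cases (fun h => absurd rfl h) (fun l _ => hc l)) (fun i => Fin.cases
      (fun _ => by simpa [hB.symm (f i) c] using hc i) (fun l h => by
        simpa using ho i l (fun e => h (by rw [e]))))) (by omega)
  have hdc : B d c = 0 := by simpa using hd 0
  have hdf : ∀ i, B d (f i) = 0 := fun i => by simpa using hd i.succ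
  obtain ⟨s, t, h⟩ := exists_binary_val hB hcc hdd v
  refine ⟨s • c + t • d, fun i => by simp [hc i, hdf i], ?_⟩
  simp only [map_add, map_smul, LinearMap.add_apply, LinearMap.smul_apply, smul_eq_mul, hB.symm c d, hdc]
  linear_combination h

/-- A product of two reflections moves some anisotropic vector to an orthogonal one. -/
theorem exists_orth_image (hn : 3 ≤ Module.finrank k V) {a e : V} (ha : B a a ≠ 0) (he : B e e ≠ 0)
    (hne : ∀ c : k, e ≠ c • a) : ∃ w, B w w ≠ 0 ∧ B (rfl' B e (rfl' B a w)) w = 0 := by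
  have := hB.two_ne
  set A := B a a with hA
  set E := B e e with hE
  set C := B a e with hC
  obtain ⟨a', ha'⟩ : ∃ a', a' = e - (C / A) • a := ⟨_, rfl⟩
  have ha'a : B a' a = 0 := by
    simp [ha', hB.symm e a, ← hC, ← hA]; field_simp; ring
  have ha'e : B a' e = (A * E - C * C) / A := by
    simp [ha', ← hC, ← hE]; field_simp
  have ha'a' : B a' a' = (A * E - C * C) / A := by
    nth_rewrite 2 [ha']
    rw [map_sub, map_smul, ha'a, ha'e, smul_zero, sub_zero]
  by_cases hD : A * E - C * C = 0
  · have ha'0 : a' ≠ 0 := fun h => hne (C / A) (sub_eq_zero.1 (ha'.symm.trans h))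
    obtain ⟨v₀, hv₀⟩ : ∃ v, B v a' ≠ 0 := by
      by_contra h
      push Not at h
      exact ha'0 (hB.nondeg a' fun y => by rw [hB.symm]; exact h y)
    obtain ⟨v, hv⟩ : ∃ v, v = (B v₀ a')⁻¹ • (v₀ - (B v₀ a / A) • a) := ⟨_, rfl⟩
    have hva : B v a = 0 := by simp [hv, ← hA]; right; field_simp; ring
    have hva' : B v a' = 1 := by
      simp [hv, hB.symm a a', ha'a, hv₀]
    have hve : B v e = 1 := by
      rw [show e = a' + (C / A) • a by simp [ha'], map_add, map_smul, hva, hva', smul_zero, add_zero]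
    set t := (2 / E - B v v) / 2 with ht
    rw [hD, zero_div] at ha'e ha'a'
    obtain ⟨w, hw⟩ : ∃ w, w = v + t • a' := ⟨_, rfl⟩
    have hwa : B w a = 0 := by simp [hw, hva, ha'a]
    have hwe : B w e = 1 := by simp [hw, hve, ha'e]
    have hww : B w w = 2 / E := by
      simp only [hw, map_add, map_smul, LinearMap.add_apply, LinearMap.smul_apply, smul_eq_mul, hva', ha'a',
        hB.symm a' v]
      rw [ht]; field_simp; ring
    refine ⟨w, by rw [hww]; exact div_ne_zero this he, ?_⟩
    rw [form_rfl'_rfl' hB a e w ha he, hwa, hwe, hww, ← hE]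
    field_simp
    ring
  · set τ := 2 * C * C / (A * E) - 1 with hτ
    by_cases hτ0 : τ = 0
    · refine ⟨a, ha, ?_⟩
      rw [form_rfl'_rfl' hB a e a ha he, ← hA, ← hC, ← hE]
      rw [hτ, sub_eq_zero, div_eq_one_iff_eq (mul_ne_zero ha he)] at hτ0
      field_simp
      linear_combination hτ0
    have hDA : (A * E - C * C) / A ≠ 0 := div_ne_zero hD ha
    obtain ⟨c, hc, hcc⟩ := exists_perp_aniso hB ![a, a'] (fun i => by fin_cases i <;> simp [← hA, ha, ha'a', hDA])
      (fun i l h => by fin_cases i <;> fin_cases l <;> simp_all [hB.symm a a'])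
      (by omega)
    have hca : B c a = 0 := by simpa using hc 0
    have hca' : B c a' = 0 := by simpa using hc 1
    have hce : B c e = 0 := by
      rw [show e = a' + (C / A) • a by simp [ha'], map_add, map_smul, hca, hca', smul_zero, add_zero]
    obtain ⟨s, t, hst⟩ := exists_binary_val hB ha hDA (-(B c c) / τ)
    obtain ⟨p, hp⟩ : ∃ p, p = s • a + t • a' := ⟨_, rfl⟩
    obtain ⟨w, hw⟩ : ∃ w, w = p + c := ⟨_, rfl⟩
    have hwa : B w a = s * A := by simp [hw, hp, ← hA, ha'a, hca]
    have hwe : B w e = s * C + t * ((A * E - C * C) / A) := by simp [hw, hp, ← hC, ha'e, hce]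
    have hww : B w w = -(B c c) / τ + B c c := by
      simp only [hw, hp, map_add, map_smul, LinearMap.add_apply, LinearMap.smul_apply, smul_eq_mul,
        hB.symm a a', ha'a, ha'a', hca, hca', hB.symm a c, hB.symm a' c, ← hA]
      linear_combination hst
    refine ⟨w, ?_, ?_⟩
    · rw [hww]
      intro h0
      field_simp at h0
      have h1 : τ = 1 := by
        have h2 : B c c * (τ - 1) = 0 := by linear_combination h0
        exact sub_eq_zero.1 ((mul_eq_zero.1 h2).resolve_left hcc)
      apply hD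
      rw [hτ, sub_eq_iff_eq_add, div_eq_iff (mul_ne_zero ha he)] at h1
      have h2 : (2 : k) * (A * E - C * C) = 0 := by linear_combination -h1
      exact (mul_eq_zero.1 h2).resolve_left this
    · have hcc' : B c c = -τ * (A * s ^ 2 + (A * E - C * C) / A * t ^ 2) := by
        rw [hst]; field_simp
      rw [form_rfl'_rfl' hB a e w ha he, hwa, hwe, hww, ← hA, ← hC, ← hE, ← hst, hcc', hτ]
      field_simp
      ring

/-- An odd group normalised by the reflections and permuting them centralises them. -/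
theorem odd_commutes {Γ : Type*} [Group Γ] (R : V → Γ) (hn : 3 ≤ Module.finrank k V)
    (hRR : ∀ a, B a a ≠ 0 → R a * R a = 1)
    (hpar : ∀ a b, B a a ≠ 0 → B b b ≠ 0 → (R a = R b ↔ ∃ c : k, a = c • b))
    (hcomm : ∀ a b, B a a ≠ 0 → B b b ≠ 0 → B a b = 0 → R a * R b = R b * R a)
    (hconj : ∀ a e w, B a a ≠ 0 → B e e ≠ 0 → B w w ≠ 0 →
      (R e * R a) * R w * (R e * R a)⁻¹ = R (rfl' B e (rfl' B a w)))
    (M : Subgroup Γ) (hodd : Odd (Nat.card M))
    (hnorm : ∀ a, B a a ≠ 0 → ∀ y ∈ M, R a * y * R a ∈ M)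
    (himg : ∀ y ∈ M, ∀ a, B a a ≠ 0 → ∃ e, B e e ≠ 0 ∧ y * R a * y⁻¹ = R e) :
    ∀ y ∈ M, ∀ a, B a a ≠ 0 → y * R a = R a * y := by
  intro y hy a ha
  obtain ⟨e, he, hye⟩ := himg y hy a ha
  have hmem : ∀ z ∈ M, ∀ w, B w w ≠ 0 → z * R w * z⁻¹ * R w ∈ M := fun z hz w hw => by
    rw [mul_assoc, mul_assoc, ← mul_assoc (R w)]
    exact M.mul_mem hz (hnorm w hw _ (M.inv_mem hz))
  suffices hae : R e = R a by
    rw [hae] at hye
    exact mul_inv_eq_iff_eq_mul.1 hye
  by_contra hne
  have hlin : ∀ c : k, e ≠ c • a := fun c h => hne ((hpar e a he ha).2 ⟨c, h⟩)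
  obtain ⟨w, hw, hw0⟩ := exists_orth_image hB hn ha he hlin
  set x := rfl' B e (rfl' B a w)
  have hx : B x x ≠ 0 := by rw [form_rfl' hB, form_rfl' hB]; exact hw
  have hz : R e * R a ∈ M := by rw [← hye]; exact hmem y hy a ha
  have h1 : R x * R w ∈ M := by rw [← hconj a e w ha he hw]; exact hmem _ hz w hw
  have h2 : (R x * R w) ^ 2 = 1 := by
    rw [pow_two, mul_assoc, ← mul_assoc (R w), ← hcomm x w hx hw hw0, mul_assoc, hRR w hw, mul_one, hRR x hx]
  have h3 : R x * R w = 1 := by
    have ho : orderOf (⟨_, h1⟩ : M) = 1 := Nat.eq_one_of_dvd_coprimes (Nat.coprime_two_left.mpr hodd)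
      (orderOf_dvd_of_pow_eq_one (Subtype.ext h2)) (orderOf_dvd_natCard _)
    exact congrArg Subtype.val (orderOf_eq_one_iff.1 ho)
  have h4 : R x = R w := mul_right_cancel (h3.trans (hRR w hw).symm)
  obtain ⟨c, hc⟩ := (hpar x w hx hw).1 h4
  rw [hc, map_smul, LinearMap.smul_apply, smul_eq_mul, mul_eq_zero] at hw0
  rcases hw0 with h | h
  · exact hx (by rw [hc, h, zero_smul, map_zero])
  · exact hw h

/-- A semilinear map preserving the anisotropic lines is a scalar. -/
theorem lines_scalar (hn : 3 ≤ Module.finrank k V) (τ : k → k) (u : V → V)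
    (hadd : ∀ x y, u (x + y) = u x + u y) (hsmul : ∀ (t : k) x, u (t • x) = τ t • u x)
    (hinj : Function.Injective u)
    (hl : ∀ a, B a a ≠ 0 → ∃ l : k, u a = l • a) :
    ∃ l : k, l ≠ 0 ∧ (∀ x, u x = l • x) ∧ ∀ t, τ t = t := by
  have := hB.two_ne
  let U : V →+ V := AddMonoidHom.mk' u hadd
  have hneg : ∀ x, u (-x) = -u x := fun x => map_neg U x
  have hsub : ∀ x y, u (x - y) = u x - u y := fun x y => map_sub U x y
  have h0 : u 0 = 0 := map_zero U
  have indep : ∀ a b, B a a ≠ 0 → B b b ≠ 0 → B a b = 0 → ∀ p q : k, p • a + q • b = 0 → p = 0 ∧ q = 0 := by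
    intro a b ha hb hab p q h
    have h1 := congrArg (fun z => B z a) h
    have h2 := congrArg (fun z => B z b) h
    simp [hab, hB.symm b a] at h1 h2
    exact ⟨h1.resolve_right ha, h2.resolve_right hb⟩
  -- orthogonal vectors with anisotropic sum have the same factor
  have step : ∀ (a b : V) (la lb : k), B a a ≠ 0 → B b b ≠ 0 → B a b = 0 → u a = la • a → u b = lb • b →
      B (a + b) (a + b) ≠ 0 → la = lb := by
    intro a b la lb ha hb hab hua hub hs
    obtain ⟨l, hl'⟩ := hl _ hs
    rw [hadd, hua, hub, smul_add] at hl'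
    have := indep a b ha hb hab (la - l) (lb - l) (by
      rw [sub_smul, sub_smul, ← sub_eq_zero.2 hl']; abel)
    exact (sub_eq_zero.1 this.1).trans (sub_eq_zero.1 this.2).symm
  have hsum : ∀ a b, B a b = 0 → B (a + b) (a + b) = B a a + B b b := fun a b h => by
    simp [hB.symm b a, h]
  have hval : ∀ (a b : V) (la lb : k), B a a ≠ 0 → B b b ≠ 0 → B a b = 0 → u a = la • a → u b = lb • b → la = lb := by
    intro a b la lb ha hb hab hua hub
    by_cases hs : B (a + b) (a + b) = 0
    swap
    · exact step a b la lb ha hb hab hua hub hs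
    have hbv : B b b = -B a a := by rw [hsum a b hab] at hs; exact eq_neg_of_add_eq_zero_right hs
    obtain ⟨c, hc, hcc⟩ := exists_perp_aniso hB ![a, b] (fun i => by fin_cases i <;> simp [ha, hb])
      (fun i l h => by fin_cases i <;> fin_cases l <;> first | exact absurd rfl h | simpa [hB.symm b a] using hab)
      (by omega)
    have hca : B c a = 0 := by simpa using hc 0
    have hcb : B c b = 0 := by simpa using hc 1
    have hac : B a c = 0 := by rw [hB.symm]; exact hca
    have hbc : B b c = 0 := by rw [hB.symm]; exact hcb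
    obtain ⟨lc, huc⟩ := hl c hcc
    by_cases h1 : B c c + B a a = 0
    · have hbcs : B (b + c) (b + c) ≠ 0 := by
        rw [hsum b c hbc, hbv, eq_neg_of_add_eq_zero_left h1, ← two_mul]
        exact mul_ne_zero this (neg_ne_zero.2 ha)
      have e := step b c lb lc hb hcc hbc hub huc hbcs
      have hubc : u (b + c) = lb • (b + c) := by rw [hadd, hub, huc, ← e, smul_add]
      refine step a (b + c) la lb ha hbcs (by simp [hab, hac]) hua hubc ?_
      rw [hsum a (b + c) (by simp [hab, hac]), hsum b c hbc, hbv, eq_neg_of_add_eq_zero_left h1,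
        show B a a + (-B a a + -B a a) = -B a a by ring]
      exact neg_ne_zero.2 ha
    · have hacs : B (a + c) (a + c) ≠ 0 := by rw [hsum a c hac, add_comm]; exact h1
      have e := step a c la lc ha hcc hac hua huc hacs
      have huac : u (a + c) = la • (a + c) := by rw [hadd, hua, huc, ← e, smul_add]
      refine (step b (a + c) lb la hb hacs (by simp [hB.symm b a, hab, hbc]) hub huac ?_).symm
      rw [hsum b (a + c) (by simp [hB.symm b a, hab, hbc]), hsum a c hac, hbv, ← add_assoc, neg_add_cancel, zero_add]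
      exact hcc
  obtain ⟨a, -, ha⟩ := exists_perp_aniso hB (![] : Fin 0 → V) (fun i => i.elim0) (fun i => i.elim0) (by omega)
  obtain ⟨l, hua⟩ := hl a ha
  have ha0 : a ≠ 0 := fun h => ha (by simp [h])
  have hl0 : l ≠ 0 := fun h => ha0 (hinj (by rw [hua, h, zero_smul, h0]))
  obtain ⟨b, hb, hbb⟩ := exists_perp_value hB ![a] (fun i => by fin_cases i; simpa using ha)
    (fun i j h => by fin_cases i; fin_cases j; simp at h) (by omega) (B a a)
  have hba : B b a = 0 := by simpa using hb 0
  have hab : B a b = 0 := by rw [hB.symm]; exact hba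
  have hb' : B b b ≠ 0 := by rw [hbb]; exact ha
  obtain ⟨lb, hub⟩ := hl b hb'
  obtain rfl := hval a b l lb ha hb' hab hua hub
  have hτ1 : τ 1 = 1 := by
    have h := hsmul 1 a
    rw [one_smul, hua, smul_smul] at h
    have := smul_left_injective k ha0 h
    exact (mul_right_cancel₀ hl0 ((one_mul l).trans this)).symm
  have hτadd : ∀ s t, τ (s + t) = τ s + τ t := fun s t => by
    have h := hsmul (s + t) a
    rw [add_smul, hadd, hsmul, hsmul, ← add_smul, hua, smul_smul, smul_smul] at h
    exact (mul_right_cancel₀ hl0 (smul_left_injective k ha0 h)).symm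
  have hτ' : ∀ t : k, t * t + 1 ≠ 0 → τ t = t := fun t ht => by
    have hs : B (a + t • b) (a + t • b) ≠ 0 := by
      rw [hsum _ _ (by simp [hab])]
      simp only [map_smul, LinearMap.smul_apply, smul_eq_mul, hbb]
      intro h
      exact ht ((mul_eq_zero.1 (by linear_combination h : (t * t + 1) * B a a = 0)).resolve_right ha)
    obtain ⟨m, hm⟩ := hl _ hs
    rw [hadd, hsmul, hua, hub, smul_add, smul_smul, smul_smul] at hm
    have h := indep a b ha hb' hab (l - m) (τ t * l - m * t) (by
      rw [sub_smul, sub_smul, ← sub_eq_zero.2 hm]; abel)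
    have h1 := h.2
    rw [← sub_eq_zero.1 h.1, mul_comm l t] at h1
    exact mul_right_cancel₀ hl0 (sub_eq_zero.1 h1)
  have hτ : ∀ t, τ t = t := fun t => by
    by_cases ht : t * t + 1 = 0
    swap
    · exact hτ' t ht
    by_cases h1 : (t + 1) * (t + 1) + 1 = 0
    · have h2 : (t + 2) * (t + 2) + 1 ≠ 0 := fun h2 => by
        have e1 : 2 * t + 1 = 0 := by linear_combination h1 - ht
        have e2 : (2 : k) * (2 * t + 2) = 0 := by linear_combination h2 - ht
        have e3 := (mul_eq_zero.1 e2).resolve_left this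
        exact one_ne_zero (by linear_combination e3 - e1 : (1 : k) = 0)
      have h := hτadd t 2
      rw [hτ' _ h2, show τ 2 = 2 by rw [← one_add_one_eq_two, hτadd, hτ1]] at h
      linear_combination -h
    · have h := hτadd t 1
      rw [hτ' _ h1, hτ1] at h
      linear_combination -h
  refine ⟨l, hl0, fun x => ?_, hτ⟩
  have hsm : ∀ (t : k) z, u (t • z) = t • u z := fun t z => by rw [hsmul, hτ]
  -- every vector orthogonal to `a`
  have hperp : ∀ z, B z a = 0 → u z = l • z := by
    intro z hza
    have haniso : ∀ z, B z a = 0 → B z z ≠ 0 → u z = l • z := fun z hza hzz => by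
      obtain ⟨lz, hz⟩ := hl z hzz
      rw [hz, hval a z l lz ha hzz (by rw [hB.symm]; exact hza) hua hz]
    by_cases hzz : B z z = 0
    swap
    · exact haniso z hza hzz
    by_cases hs : B (z + b) (z + b) = 0
    · have hd : B (z - b) (z - b) ≠ 0 := fun hd => hb' (by
        simp [hB.symm b z, hzz] at hs hd
        have h2 : (2 : k) * B b b = 0 := by linear_combination hs + hd
        exact (mul_eq_zero.1 h2).resolve_left this)
      have h := haniso (z - b) (by simp [hza, hba]) hd
      rw [hsub, hub, smul_sub] at h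
      exact sub_left_injective h
    · have h := haniso (z + b) (by simp [hza, hba]) hs
      rw [hadd, hub, smul_add] at h
      exact add_right_cancel h
  conv_lhs => rw [← sub_add_cancel x ((B x a / B a a) • a), hadd, hsm, hua,
    hperp _ (by simp [ha]), smul_comm, ← smul_add, sub_add_cancel]

end CfsgLib.POmegaBal

namespace CfsgLib.POmegaBal

open LinearMap (BilinForm)

variable {k : Type*} [Field k] [Fintype k] {V : Type*} [AddCommGroup V] [Module k V] [FiniteDimensional k V]
  {B : BilinForm k V} (hB : IsSymForm B)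
include hB

theorem mem_span_of_neg {a b v : V} (h : rfl' B a (rfl' B b v) = -v) : ∃ p q : k, v = p • a + q • b := by
  set β := 2 * B v b / B b b
  set α := 2 * B (rfl' B b v) a / B a a
  have h' : v - β • b - α • a = -v := h
  have := hB.two_ne
  refine ⟨α / 2, β / 2, ?_⟩
  have h2 : (2 : k) • v = α • a + β • b := by
    rw [two_smul]
    nth_rewrite 2 [← neg_neg v]
    rw [← h']
    abel
  rw [show v = (2 : k)⁻¹ • ((2 : k) • v) by rw [smul_smul, inv_mul_cancel₀ this, one_smul], h2, smul_add,
    smul_smul, smul_smul]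
  congr 2 <;> ring

theorem neg_one_on_plane {a b : V} (ha : B a a ≠ 0) (hb : B b b ≠ 0) (hab : B a b = 0) :
    rfl' B a (rfl' B b a) = -a ∧ rfl' B a (rfl' B b b) = -b := by
  have hba : B b a = 0 := by rw [hB.symm]; exact hab
  constructor
  · simp only [rfl', hab]
    simp only [mul_zero, zero_div, zero_smul, sub_zero]
    rw [show 2 * B a a / B a a = (2 : k) by field_simp, two_smul]
    abel
  · simp only [rfl', map_sub, map_smul, LinearMap.sub_apply, LinearMap.smul_apply, hba, smul_eq_mul, mul_zero,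
      sub_zero]
    rw [show 2 * B b b / B b b = (2 : k) by field_simp, two_smul]
    simp

/-- A semisimilarity commuting up to sign with two products of orthogonal reflections preserves the common
line. -/
theorem line_of_two_pairs (hn : 5 ≤ Module.finrank k V) (u : V → V) (hneg : ∀ x, u (-x) = -u x)
    (h0 : ∀ x y, B (u x) (u y) = 0 ↔ B x y = 0) {a b b' : V} (ha : B a a ≠ 0) (hb : B b b ≠ 0)
    (hb' : B b' b' ≠ 0) (hab : B a b = 0) (hab' : B a b' = 0) (hbb' : B b b' = 0) {l l' : k}
    (hl : l = 1 ∨ l = -1) (hl' : l' = 1 ∨ l' = -1)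
    (hu : ∀ v, u (rfl' B a (rfl' B b v)) = l • rfl' B a (rfl' B b (u v)))
    (hu' : ∀ v, u (rfl' B a (rfl' B b' v)) = l' • rfl' B a (rfl' B b' (u v))) :
    ∃ m : k, u a = m • a := by
  classical
  have key : ∀ b, B b b ≠ 0 → B a b = 0 → ∀ l : k, (l = 1 ∨ l = -1) →
      (∀ v, u (rfl' B a (rfl' B b v)) = l • rfl' B a (rfl' B b (u v))) → ∃ p q : k, u a = p • a + q • b := by
    intro b hb hab l hl hu
    rcases hl with rfl | rfl
    · refine mem_span_of_neg hB ?_
      have h := hu a
      rw [(neg_one_on_plane hB ha hb hab).1, one_smul, hneg] at h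
      exact h.symm
    exfalso
    obtain ⟨c₁, hc₁, hc₁'⟩ := exists_perp_aniso hB ![a, b] (fun i => by fin_cases i <;> simp [ha, hb])
      (fun i l h => by fin_cases i <;> fin_cases l <;> first | exact absurd rfl h | simpa [hB.symm b a] using hab)
      (by omega)
    have e1 : B c₁ a = 0 ∧ B c₁ b = 0 := ⟨by simpa using hc₁ 0, by simpa using hc₁ 1⟩
    obtain ⟨c₂, hc₂, hc₂'⟩ := exists_perp_aniso hB ![a, b, c₁] (fun i => by fin_cases i <;> simp [ha, hb, hc₁'])
      (fun i l h => by
        fin_cases i <;> fin_cases l <;> first | exact absurd rfl h | simp [hab, hB.symm b a, e1, hB.symm a c₁, hB.symm b c₁])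
      (by omega)
    have e2 : B c₂ a = 0 ∧ B c₂ b = 0 ∧ B c₂ c₁ = 0 :=
      ⟨by simpa using hc₂ 0, by simpa using hc₂ 1, by simpa using hc₂ 2⟩
    obtain ⟨c₃, hc₃, hc₃'⟩ := exists_perp_aniso hB ![a, b, c₁, c₂]
      (fun i => by fin_cases i <;> simp [ha, hb, hc₁', hc₂'])
      (fun i l h => by
        fin_cases i <;> fin_cases l <;> first
          | exact absurd rfl h
          | simp [hab, hB.symm b a, e1, e2, hB.symm a c₁, hB.symm b c₁, hB.symm a c₂, hB.symm b c₂, hB.symm c₁ c₂])
      (by omega)
    have e3 : B c₃ a = 0 ∧ B c₃ b = 0 ∧ B c₃ c₁ = 0 ∧ B c₃ c₂ = 0 :=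
      ⟨by simpa using hc₃ 0, by simpa using hc₃ 1, by simpa using hc₃ 2, by simpa using hc₃ 3⟩
    have hfix : ∀ c, B c a = 0 → B c b = 0 → u c ∈ Submodule.span k (Set.range ![a, b]) := fun c h1 h2 => by
      have e : rfl' B a (rfl' B b c) = c := by simp [rfl', h1, h2]
      have h := hu c
      rw [e, neg_smul, one_smul] at h
      obtain ⟨p, q, hpq⟩ := mem_span_of_neg hB ((neg_eq_iff_eq_neg.2 h).symm)
      rw [hpq]
      exact add_mem (Submodule.smul_mem _ _ (Submodule.subset_span ⟨0, rfl⟩))
        (Submodule.smul_mem _ _ (Submodule.subset_span ⟨1, rfl⟩))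
    set W := Submodule.span k (Set.range ![a, b])
    let f : Fin 3 → W := ![⟨u c₁, hfix c₁ e1.1 e1.2⟩, ⟨u c₂, hfix c₂ e2.1 e2.2.1⟩, ⟨u c₃, hfix c₃ e3.1 e3.2.1⟩]
    have hli : LinearIndependent k fun i => (f i : V) := by
      refine LinearMap.BilinForm.linearIndependent_of_iIsOrtho (B := B)
        (LinearMap.BilinForm.iIsOrtho_def.2 fun i l h => ?_) fun i => ?_
      · fin_cases i <;> fin_cases l <;> first
          | exact absurd rfl h
          | simp [f, h0, e2, e3, hB.symm c₁ c₂, hB.symm c₁ c₃, hB.symm c₂ c₃]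
      · fin_cases i <;> simp [f, h0, hc₁', hc₂', hc₃']
    have h3 := (LinearIndependent.of_comp W.subtype hli).fintype_card_le_finrank
    have h2 : Module.finrank k W ≤ 2 := (finrank_range_le_card ![a, b]).trans (by simp)
    simp at h3
    omega
  obtain ⟨p, q, h⟩ := key b hb hab l hl hu
  obtain ⟨p', q', h'⟩ := key b' hb' hab' l' hl' hu'
  refine ⟨p, ?_⟩
  have hq := congrArg (fun z => B z b) (h.symm.trans h')
  simp [hab, hB.symm b' b, hbb'] at hq
  rw [h, hq.resolve_right hb, zero_smul, add_zero]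

end CfsgLib.POmegaBal
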