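import Cfsg.Agent.Lib.POmegaBal.Common
import Cfsg.Agent.Lib.POmega.Simple

/-!
Local balance at an automorphism induced by an improper similarity of square zero order two: generalities,
and the case of a square multiplier.
-/

set_option autoImplicit false
set_option linter.unusedSectionVars false

namespace CfsgLib.POmegaBal

open Matrix QuadraticMap Module CfsgLib.Orth CfsgLib.AutBalance Cfsg.Agent.GammaO57
open CfsgLib.POmegaSim (Sim SimData act oS emb)
open CfsgLib.POmegaSim.SimData (scalarS)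
open LinearMap (BilinForm)

variable {F : Type*} [Field F] [Fintype F] {ι : Type} [Fintype ι] [DecidableEq ι]
  {Q : QuadraticForm F (ι → F)}

/-- An automorphism centralising the fixed points commutes with their products of reflections. -/
def Centralizes (γ u : MulAut (Cfsg.POmega F ⇑Q)) : Prop :=
  u * γ = γ * u ∧ ∀ k ∈ fixedPts γ, u k = k

variable (S : SimData Q)
include S

theorem conj_injective : Function.Injective (MulAut.conj : Cfsg.POmega F ⇑Q →* MulAut (Cfsg.POmega F ⇑Q)) := by
  refine (injective_iff_map_eq_one _).mpr fun x hx => ?_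
  induction x using QuotientGroup.induction_on with
  | _ s =>
    rw [← gAut_omegaIn] at hx
    obtain ⟨-, c, hc⟩ := gAut_eq_one S.hQ S.hn S.hyp hx
    refine (QuotientGroup.eq_one_iff _).mpr (CfsgLib.POmega.mem_center_of_scalar (e := (c : F)) fun v => ?_)
    have h : ((s : O Q) : GL ι F) = GeneralLinearGroup.scalar ι c := hc
    rw [app_apply, h]
    show Matrix.scalar ι (c : F) *ᵥ v = _
    rw [Matrix.scalar_apply, ← Matrix.smul_one_eq_diagonal, smul_mulVec, one_mulVec]

omit S in
theorem scalarS_mulVec (c : Fˣ) (v : ι → F) :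
    (((scalarS Q c).1 : GL ι F) : Matrix ι ι F) *ᵥ v = (c : F) • v := by
  show Matrix.scalar ι (c : F) *ᵥ v = _
  rw [Matrix.scalar_apply, ← Matrix.smul_one_eq_diagonal, smul_mulVec, one_mulVec]

theorem act_scalarS_mul (c : Fˣ) (w : ↥(Sim Q)) : act Q (scalarS Q c * w) = act Q w := by
  rw [map_mul, S.act_scalar (scalarS Q c) c rfl, one_mul]

/-- A semisimilarity proportional to a similarity induces the same automorphism. -/
theorem gAut_eq_act (y : ↥(semiGroup Q)) (w : ↥(Sim Q)) (c : F) (hc : c ≠ 0) (hr : ∀ t, y.1.right t = t)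
    (h : ∀ v, semi y.1 v = c • ((w.1 : Matrix ι ι F) *ᵥ v)) : gAut Q y = act Q w := by
  have hr' : y.1.right = 1 := RingEquiv.ext hr
  rw [← act_scalarS_mul S (Units.mk0 c hc) w]
  refine congrArg _ (Subtype.ext (SemidirectProduct.ext (Units.ext (Matrix.ext_of_mulVec_single fun i => ?_)) hr'))
  have h' := h (Pi.single i 1)
  rw [semi, hr'] at h'
  refine h'.trans ?_
  show _ = (((scalarS Q _).1 : Matrix ι ι F) * (w.1 : Matrix ι ι F)) *ᵥ _
  rw [← Matrix.mulVec_mulVec, scalarS_mulVec]
  rfl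

/-- The members of the odd core come from isometries. -/
theorem exists_of_mem_coreM {γ y : MulAut (Cfsg.POmega F ⇑Q)} (hy : y ∈ coreM γ) :
    ∃ s : O Q, y = act Q (oS Q s) ∧ y * γ = γ * y := by
  obtain ⟨k, -, rfl⟩ := hy
  obtain ⟨z, hz⟩ := QuotientGroup.mk_surjective k.1
  refine ⟨z, ?_, Subgroup.mem_centralizer_singleton_iff.1 (conj_mem_centralizer k.2)⟩
  show MulAut.conj k.1 = _
  rw [← hz, ← gAut_omegaIn]
  rfl

/-- An element of odd order commuting with `γ` comes from an isometry commuting with the similarity. -/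
theorem exact_comm {w : ↥(Sim Q)} (hw2 : act Q (w * w) = 1) {s : O Q}
    (hc : act Q (oS Q s) * act Q w = act Q w * act Q (oS Q s)) {n : ℕ} (hn : Odd n)
    (hsn : act Q (oS Q s) ^ n = 1) (v : ι → F) :
    app s ((w.1 : Matrix ι ι F) *ᵥ v) = (w.1 : Matrix ι ι F) *ᵥ app s v := by
  obtain ⟨c, hc'⟩ := semi_comm S (emb Q (oS Q s)) w hc
  have e : ∀ z, semi (emb Q (oS Q s)).1 z = app s z := fun z => (app_semi s z)
  simp only [e] at hc'
  obtain ⟨l, hl⟩ := S.act_eq_one hw2
  have hll : ∀ z, (w.1 : Matrix ι ι F) *ᵥ ((w.1 : Matrix ι ι F) *ᵥ z) = (l : F) • z := fun z => by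
    rw [Matrix.mulVec_mulVec, show (w.1 : Matrix ι ι F) * (w.1 : Matrix ι ι F) = _ from
      congrArg (fun y : ↥(Sim Q) => (y.1 : Matrix ι ι F)) hl, scalarS_mulVec]
  obtain ⟨z, hz⟩ : ∃ z : ι → F, z ≠ 0 := ⟨S.e, fun h => one_ne_zero (S.he.symm.trans (by rw [h, QuadraticMap.map_zero]))⟩
  have hsz : ∀ t : O Q, app t z ≠ 0 := fun t h => hz (app_injective t (h.trans (map_zero (app t)).symm))
  have h1 : (c : F) * c = 1 := by
    have h := congrArg (app s) (hll z)
    rw [map_smul, hc', hc', Matrix.mulVec_smul, hll, smul_smul, smul_smul] at h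
    have := smul_left_injective F (hsz s) h
    exact mul_right_cancel₀ (Units.ne_zero l) (this.trans (one_mul _).symm)
  have hpow : ∀ (i : ℕ) u, app (s ^ i) ((w.1 : Matrix ι ι F) *ᵥ u) =
      (c : F) ^ i • ((w.1 : Matrix ι ι F) *ᵥ app (s ^ i) u) := by
    intro i
    induction i with
    | zero => intro u; simp
    | succ i ih =>
      intro u
      rw [pow_succ s, app_mul, app_mul, hc', map_smul, ih, smul_smul, pow_succ' (c : F)]
  obtain ⟨d, hd⟩ := S.act_eq_one (y := oS Q (s ^ n)) (by rw [map_pow, map_pow, hsn])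
  have hd' : ∀ u, app (s ^ n) u = (d : F) • u := fun u => by
    rw [← app_semi]
    show ((((oS Q (s ^ n)).1 : GL ι F)) : Matrix ι ι F) *ᵥ u = _
    rw [hd, scalarS_mulVec]
  have hwz : (w.1 : Matrix ι ι F) *ᵥ z ≠ 0 := fun h => hz (by
    have := hll z; rw [h, Matrix.mulVec_zero] at this
    exact (smul_eq_zero.1 this.symm).resolve_left (Units.ne_zero l))
  have hcn : (c : F) ^ n = 1 := by
    have h := hpow n z
    rw [hd', hd', Matrix.mulVec_smul, smul_smul] at h
    exact mul_right_cancel₀ (Units.ne_zero d) ((smul_left_injective F hwz h).symm.trans (one_mul _).symm)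
  obtain ⟨j, rfl⟩ := hn
  rw [pow_succ, pow_mul, pow_two, h1, one_pow, one_mul] at hcn
  rw [hc', hcn, one_smul]

/-- The core is trivial when the odd core of the fixed points acts as `1` or `γ`. -/
theorem core_fixedPts_eq_bot {γ : MulAut (Cfsg.POmega F ⇑Q)} (hγ2 : γ * γ = 1)
    (h : ∀ y ∈ coreM γ, y = 1 ∨ y = γ) : Cfsg.pPrimeCore 2 (fixedPts γ) = ⊥ := by
  have hbot : coreM γ = ⊥ := by
    rw [Subgroup.eq_bot_iff_forall]
    intro y hy
    rcases h y hy with e | e
    · exact e
    · have h2 : (⟨y, hy⟩ : coreM γ) ^ 2 = 1 := Subtype.ext (by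
        show y ^ 2 = 1
        rw [pow_two, e, hγ2])
      have ho : orderOf (⟨y, hy⟩ : coreM γ) = 1 := Nat.eq_one_of_dvd_coprimes
        (Nat.coprime_two_left.mpr (odd_coreM γ)) (orderOf_dvd_of_pow_eq_one h2) (orderOf_dvd_natCard _)
      exact congrArg Subtype.val (orderOf_eq_one_iff.1 ho)
  refine (Subgroup.map_eq_bot_iff_of_injective _ ?_).1 hbot
  exact (conj_injective S).comp Subtype.val_injective

/-- Semisimilarities on the polar form. -/
theorem polar_semi (y : ↥(semiGroup Q)) :
    ∃ μ : Fˣ, ∀ v w, polar Q (semi y.1 v) (semi y.1 w) = (μ : F) * y.1.right (polar Q v w) := by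
  obtain ⟨μ, hμ⟩ := y.2
  refine ⟨μ, fun v w => ?_⟩
  rw [QuadraticMap.polar, ← semi_add, hμ, hμ, hμ, QuadraticMap.polar, map_sub, map_sub]
  ring

theorem pair_mem_omega {a b : ι → F} (ha : Q a ≠ 0) (hab : Q a = Q b) :
    refl Q a * refl Q b ∈ Cfsg.Omega F ⇑Q := by
  classical
  obtain ⟨g, hg⟩ := conj_of_eq_value S.h2 ha hab
  rw [Cfsg.Omega, _root_.commutator_eq_closure]
  exact Subgroup.subset_closure (pair_mem_commutator hg)

/-- An automorphism centralising the fixed points commutes up to sign with a product of two orthogonal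
reflections which commutes with the similarity. -/
theorem semi_pair {w : ↥(Sim Q)} {y : ↥(semiGroup Q)} (hu : Centralizes (act Q w) (gAut Q y))
    {z : O Q} (hz : z ∈ Cfsg.Omega F ⇑Q) (hzw : Commute (act Q (oS Q z)) (act Q w)) (hz2 : z * z = 1) :
    ∃ l : F, (l = 1 ∨ l = -1) ∧ ∀ v, semi y.1 (app z v) = l • app z (semi y.1 v) := by
  obtain ⟨c, hc⟩ := semi_comm S y (oS Q z) (commute_of_fix (conj_injective S) hu.2 hz hzw)
  have hc' : ∀ v, semi y.1 (app z v) = (c : F) • app z (semi y.1 v) := fun v => by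
    rw [← app_semi z v, ← app_semi z (semi y.1 v)]
    exact hc v
  refine ⟨c, ?_, hc'⟩
  have h2 : ∀ v, app z (app z v) = v := fun v => by rw [← app_mul, hz2, app_one]
  have hne : semi y.1 S.e ≠ 0 := fun h => one_ne_zero (α := F) (by
    have := semi_inv_semi y.1 S.e
    rw [h, show semi y.1⁻¹ (0 : ι → F) = 0 by simpa using semi_smul y.1⁻¹ 0 (0 : ι → F)] at this
    rw [← S.he, ← this, QuadraticMap.map_zero])
  have h := hc' (app z S.e)
  rw [h2, hc', map_smul, h2, smul_smul] at h
  exact mul_self_eq_one_iff.1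
    ((smul_left_injective F hne ((one_smul F (semi y.1 S.e)).trans h)).symm)

section Square

variable {h : O Q} (hh : h * h = 1) (hdet : detHom Q h = -1)
include hh hdet

omit S hdet in
theorem hL (v : ι → F) : app h (app h v) = v := by rw [← app_mul, hh, app_one]

/-- An eigenspace. -/
abbrev eig (h : O Q) (s : F) : Submodule F (ι → F) := LinearMap.ker (app h - s • LinearMap.id)

omit S hh hdet in
theorem mem_eig {s : F} {v : ι → F} : v ∈ eig h s ↔ app h v = s • v := by
  simp [eig, sub_eq_zero]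

omit hh hdet in
theorem eig_orth {a b : ι → F} (ha : app h a = a) (hb : app h b = -b) : polar Q a b = 0 := by
  have h1 := polar_app h a b
  rw [ha, hb, polar_neg_right] at h1
  have : (2 : F) * polar Q a b = 0 := by linear_combination -h1
  exact (mul_eq_zero.1 this).resolve_left S.h2

omit hdet in
theorem eig_split (z : ι → F) : ∃ a b, app h a = a ∧ app h b = -b ∧ z = a + b := by
  refine ⟨(2 : F)⁻¹ • (z + app h z), (2 : F)⁻¹ • (z - app h z), ?_, ?_, ?_⟩
  · simp [map_add, hL hh, add_comm]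
  · simp [map_sub, hL hh, ← smul_neg]
  · rw [← smul_add, show z + app h z + (z - app h z) = (2 : F) • z by rw [two_smul]; abel, smul_smul,
      inv_mul_cancel₀ S.h2, one_smul]

/-- The two eigenspaces are odd-dimensional and fill the space. -/
theorem finrank_eig : finrank F (eig h 1) + finrank F (eig h (-1)) = 2 * S.M ∧
    Odd (finrank F (eig h 1)) ∧ Odd (finrank F (eig h (-1))) := by
  have e1 : eig h (1 : F) = LinearMap.ker (app h - LinearMap.id) := by rw [eig, one_smul]
  have e2 : eig h (-1 : F) = LinearMap.ker (app h + LinearMap.id) := by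
    ext v; simp [sub_eq_add_neg]
  have hsum : finrank F (eig h 1) + finrank F (eig h (-1)) = 2 * S.M := by
    rw [e1, e2, Submodule.finrank_add_eq_of_isCompl (CfsgLib.POmegaSim.isCompl_eigen S.h2 (hL hh)),
      Module.finrank_fintype_fun_eq_card, S.hM]
  have hd : LinearMap.det (app h) = -1 := by
    have : LinearMap.det (app h) = ((detHom Q h : Fˣ) : F) := by
      show LinearMap.det (Matrix.toLin' ((h : GL ι F) : Matrix ι ι F)) = _
      rw [LinearMap.det_toLin']; rfl
    rw [this, hdet]; simp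
  have ho : Odd (finrank F (eig h (-1))) := by
    by_contra hE
    rw [Nat.not_odd_iff_even] at hE
    rw [CfsgLib.POmegaSim.det_of_involution S.h2 (hL hh), ← e2, hE.neg_one_pow] at hd
    exact S.h2 (by linear_combination hd)
  refine ⟨hsum, ?_, ho⟩
  obtain ⟨i, hi⟩ := ho
  exact ⟨S.M - i - 1, by omega⟩

/-- The form on an eigenspace. -/
noncomputable abbrev eigB (h : O Q) (s : F) : BilinForm F (eig h s) :=
  LinearMap.BilinForm.restrict Q.polarBilin (eig h s)

omit hdet in
theorem isSymForm_eig {s : F} (hs : s = 1 ∨ s = -1) : IsSymForm (eigB h s) := by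
  refine ⟨fun x y => polar_comm _ _ _, fun x hx => Subtype.ext (S.hQ.1 x.1 fun z => ?_), S.h2⟩
  show polar Q x.1 z = 0
  obtain ⟨p, m, hp, hm, rfl⟩ := eig_split S hh z
  have hx1 := mem_eig.1 x.2
  rw [polar_add_right]
  rcases hs with rfl | rfl
  · have h1 : polar Q x.1 p = 0 := hx ⟨p, mem_eig.2 (by rw [one_smul]; exact hp)⟩
    rw [one_smul] at hx1
    rw [h1, eig_orth S hx1 hm, add_zero]
  · have h1 : polar Q x.1 m = 0 := hx ⟨m, mem_eig.2 (by rw [neg_one_smul]; exact hm)⟩
    rw [neg_one_smul] at hx1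
    rw [h1, polar_comm, eig_orth S hp hx1, add_zero]

omit hdet in
theorem isSymForm_full : IsSymForm (Q.polarBilin : BilinForm F (ι → F)) :=
  ⟨fun x y => polar_comm _ _ _, fun x hx => S.hQ.1 x hx, S.h2⟩

omit hh hdet in
theorem app_refl_rfl' {a : ι → F} (ha : Q a ≠ 0) (v : ι → F) :
    app (refl Q a) v = rfl' (Q.polarBilin : BilinForm F (ι → F)) a v := by
  have := S.h2
  rw [app_refl, rfl']
  congr 2
  show _ = 2 * polar Q v a / polar Q a a
  rw [polar_self']
  field_simp

omit S hdet in
theorem commute_refl {a : ι → F} {s : F} (hs : s ≠ 0) (ha : app h a = s • a) : Commute (refl Q a) h := by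
  have := refl_conj h a
  rw [ha, refl_smul hs, mul_inv_eq_iff_eq_mul] at this
  exact this.symm

/-- The reflections in an eigenspace. -/
noncomputable def eigSys {s : F} (hs : s = 1 ∨ s = -1) :
    ReflSys Q (act Q (oS Q h)) (eigB h s) where
  hB := isSymForm_eig S hh hs
  j := (eig h s).subtype.toAddMonoidHom
  R a := refl Q a.1
  on_j a ha v := by
    have ha' : Q a.1 ≠ 0 := fun e => ha (by
      show polar Q a.1 a.1 = 0
      rw [polar_self', e, mul_zero])
    show app (refl Q a.1) v.1 = _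
    rw [app_refl_rfl' S ha']
    rfl
  on_perp a _ z hz := app_refl_of_ortho (by rw [polar_comm]; exact hz a)
  span z := by
    obtain ⟨p, m, hp, hm, rfl⟩ := eig_split S hh z
    rcases hs with rfl | rfl
    · refine ⟨⟨p, mem_eig.2 (by rw [one_smul]; exact hp)⟩, m, fun w => ?_, rfl⟩
      have := mem_eig.1 w.2
      rw [one_smul] at this
      exact eig_orth S this hm
    · refine ⟨⟨m, mem_eig.2 (by rw [neg_one_smul]; exact hm)⟩, p, fun w => ?_, add_comm _ _⟩
      have := mem_eig.1 w.2
      rw [neg_one_smul] at this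
      show polar Q w.1 p = 0
      rw [polar_comm]; exact eig_orth S hp this
  j_inj := Subtype.val_injective
  comm a ha := by
    have hs0 : s ≠ 0 := by rcases hs with rfl | rfl <;> simp
    exact ((commute_refl hh hs0 (mem_eig.1 a.2)).map (oS Q)).map (act Q)

/-- The core is trivial for a square multiplier. -/
theorem core_square : Cfsg.pPrimeCore 2 (fixedPts (act Q (oS Q h))) = ⊥ := by
  have hγ2 : act Q (oS Q h) * act Q (oS Q h) = 1 := by rw [← map_mul, ← map_mul, hh, map_one, map_one]
  refine core_fixedPts_eq_bot S hγ2 fun y hy => ?_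
  have hcomm : ∀ y ∈ coreM (act Q (oS Q h)), ∃ s : O Q, y = act Q (oS Q s) ∧
      ∀ v, app s (app h v) = app h (app s v) := fun y hy => by
    obtain ⟨s, rfl, hc⟩ := exists_of_mem_coreM S hy
    refine ⟨s, rfl, fun v => ?_⟩
    have hn := congrArg Subtype.val (pow_card_eq_one' (x := (⟨_, hy⟩ : coreM (act Q (oS Q h)))))
    have := exact_comm S (w := oS Q h) (by rw [map_mul]; exact hγ2) hc (odd_coreM _) hn v
    rw [← app_semi s, ← app_semi h, ← app_semi h, ← app_semi s]
    simpa [app_semi, app_apply, oS] using this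
  have hres : ∀ (e : F) (s : O Q), (∀ v, app s (app h v) = app h (app s v)) →
      ∃ f : eig h e ≃ₗ[F] eig h e, (∀ v w, eigB h e (f v) (f w) = eigB h e v w) ∧
        ∀ v : eig h e, app s v.1 = (f v).1 := by
    intro e s hsc
    have hs' : ∀ v, app s⁻¹ (app h v) = app h (app s⁻¹ v) := fun v => app_injective s (by
      rw [hsc, app_app_inv, app_app_inv])
    have hmem : ∀ t : O Q, (∀ v, app t (app h v) = app h (app t v)) → ∀ v ∈ eig h e, app t v ∈ eig h e :=
      fun t ht v hv => mem_eig.2 (by rw [← ht, mem_eig.1 hv, map_smul])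
    refine ⟨LinearEquiv.ofLinear ((app s).restrict (hmem s hsc)) ((app s⁻¹).restrict (hmem s⁻¹ hs'))
      (LinearMap.ext fun v => Subtype.ext (app_app_inv s v.1))
      (LinearMap.ext fun v => Subtype.ext (app_inv_app s v.1)), fun v w => polar_app s v.1 w.1, fun v => rfl⟩
  have hscal : ∀ (e : F), (e = 1 ∨ e = -1) → ∀ (s : O Q), act Q (oS Q s) ∈ coreM (act Q (oS Q h)) →
      (∀ v, app s (app h v) = app h (app s v)) → ∃ l : F, (l = 1 ∨ l = -1) ∧ ∀ v ∈ eig h e, app s v = l • v := by
    intro e he s hy hsc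
    obtain ⟨f, hf, hfs⟩ := hres e s hsc
    have hB := isSymForm_eig S hh he
    obtain ⟨-, ho1, ho2⟩ := finrank_eig S hh hdet
    have hodd : Odd (finrank F (eig h e)) := by rcases he with rfl | rfl <;> assumption
    have hpos : 0 < finrank F (eig h e) := hodd.pos
    obtain ⟨l, hl⟩ : ∃ l : F, ∀ v, f v = l • v := by
      rcases (Nat.one_le_iff_ne_zero.2 hpos.ne').eq_or_lt with h1 | h1
      · obtain ⟨l, hl, -⟩ := LinearMap.existsUnique_eq_smul_id_of_finrank_eq_one h1.symm f.toLinearMap
        exact ⟨l, fun v => DFunLike.congr_fun hl v⟩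
      · have h3 : 3 ≤ finrank F (eig h e) := by rcases hodd with ⟨i, hi⟩; omega
        obtain ⟨l, -, hl, -⟩ := lines_scalar hB h3 id f (map_add f) (fun t x => map_smul f t x) f.injective
          fun a ha => (eigSys S hh he).lines_coreM S h3 (fun y hy => by
            obtain ⟨t, rfl, ht⟩ := hcomm y hy
            obtain ⟨g, hg, hgt⟩ := hres e t ht
            exact ⟨t, g, rfl, hg, hgt⟩) hy hf hfs ha
        exact ⟨l, hl⟩
    refine ⟨l, ?_, fun v hv => by rw [hfs ⟨v, hv⟩, hl]; rfl⟩
    obtain ⟨a, -, ha⟩ := exists_perp_aniso hB (![] : Fin 0 → eig h e) (fun i => i.elim0) (fun i => i.elim0) hpos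
    have hll := hf a a
    simp only [hl, map_smul, LinearMap.smul_apply, smul_eq_mul] at hll
    exact mul_self_eq_one_iff.1 (mul_right_cancel₀ ha
      (by linear_combination hll : l * l * eigB h e a a = 1 * eigB h e a a))
  obtain ⟨s, rfl, hsc⟩ := hcomm y hy
  obtain ⟨l, hl, hlv⟩ := hscal 1 (Or.inl rfl) s hy hsc
  obtain ⟨m, hm, hmv⟩ := hscal (-1) (Or.inr rfl) s hy hsc
  have hall : ∀ v, ∃ p q, app h p = p ∧ app h q = -q ∧ v = p + q ∧ app s v = l • p + m • q := fun v => by
    obtain ⟨p, q, hp, hq, rfl⟩ := eig_split S hh v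
    refine ⟨p, q, hp, hq, rfl, ?_⟩
    rw [map_add, hlv p (mem_eig.2 (by rw [one_smul]; exact hp)),
      hmv q (mem_eig.2 (by rw [neg_one_smul]; exact hq))]
  have hl0 : l ≠ 0 := by rcases hl with rfl | rfl <;> simp
  have hr : ∀ t, (emb Q (oS Q s)).1.right t = t := fun t => rfl
  by_cases hlm : m = l
  · left
    rw [← map_one (act Q)]
    refine gAut_eq_act S (emb Q (oS Q s)) 1 l hl0 hr fun v => ?_
    obtain ⟨p, q, -, -, e, hv⟩ := hall v
    rw [show semi (emb Q (oS Q s)).1 v = app s v from app_semi s v, hv, hlm, ← smul_add, ← e]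
    simp
  · right
    have hml : m = -l := by rcases hl with rfl | rfl <;> rcases hm with rfl | rfl <;> simp_all
    refine gAut_eq_act S (emb Q (oS Q s)) (oS Q h) l hl0 hr fun v => ?_
    obtain ⟨p, q, hp, hq, e, hv⟩ := hall v
    rw [show semi (emb Q (oS Q s)).1 v = app s v from app_semi s v, hv, hml,
      show ((oS Q h).1 : Matrix ι ι F) *ᵥ v = app h v by rw [app_apply]; rfl, e, map_add, hp, hq]
    module

/-- An automorphism centralising the fixed points is `1` or the involution, for a square multiplier. -/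
theorem centralizes_square (hM : 4 ≤ S.M) {y : ↥(semiGroup Q)}
    (hu : Centralizes (act Q (oS Q h)) (gAut Q y)) :
    gAut Q y = 1 ∨ gAut Q y = act Q (oS Q h) := by
  obtain ⟨hsum, ho1, ho2⟩ := finrank_eig S hh hdet
  have hinj : Function.Injective (semi y.1) := fun v w e => by
    rw [← semi_inv_semi y.1 v, e, semi_inv_semi]
  -- the big eigenspace
  obtain ⟨ε, hε, hbig⟩ : ∃ ε : F, (ε = 1 ∨ ε = -1) ∧ 5 ≤ finrank F (eig h ε) := by
    rcases le_total (finrank F (eig h 1)) (finrank F (eig h (-1))) with hle | hle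
    · refine ⟨-1, Or.inr rfl, ?_⟩; obtain ⟨i, hi⟩ := ho2; omega
    · refine ⟨1, Or.inl rfl, ?_⟩; obtain ⟨i, hi⟩ := ho1; omega
  have hε0 : ε ≠ 0 := by rcases hε with rfl | rfl <;> simp
  have hεε : ε * ε = 1 := by rcases hε with rfl | rfl <;> simp
  have hB := isSymForm_eig S hh hε
  have hFull := isSymForm_full S hh
  have pairs : ∀ {s : F}, (s = 1 ∨ s = -1) → ∀ a b, app h a = s • a → app h b = ε • b → Q a ≠ 0 → Q a = Q b →
      polar Q a b = 0 → ∃ l : F, (l = 1 ∨ l = -1) ∧
        ∀ v, semi y.1 (rfl' (Q.polarBilin : BilinForm F (ι → F)) a (rfl' Q.polarBilin b v)) =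
          l • rfl' (Q.polarBilin : BilinForm F (ι → F)) a (rfl' Q.polarBilin b (semi y.1 v)) := by
    intro s hs a b ha hb hQa hab hperp
    have hs0 : s ≠ 0 := by rcases hs with rfl | rfl <;> simp
    obtain ⟨l, hl, hlv⟩ := semi_pair S hu (pair_mem_omega S hQa hab)
      ((((commute_refl hh hs0 ha).mul_left (commute_refl hh hε0 hb)).map (oS Q)).map (act Q)) (by
        have hc : refl Q b * refl Q a = refl Q a * refl Q b := by
          have := refl_conj (refl Q a) b
          rw [app_refl_of_ortho (by rw [polar_comm]; exact hperp), refl_inv] at this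
          calc refl Q b * refl Q a = refl Q a * refl Q b * refl Q a * refl Q a := by rw [this]
            _ = refl Q a * refl Q b := by rw [mul_assoc (refl Q a * refl Q b), refl_mul_self, mul_one]
        rw [mul_assoc, ← mul_assoc (refl Q b), hc, mul_assoc, refl_mul_self, mul_one, refl_mul_self])
    refine ⟨l, hl, fun v => ?_⟩
    have hQb : Q b ≠ 0 := hab ▸ hQa
    have := hlv v
    rwa [app_mul, app_mul, app_refl_rfl' S hQa, app_refl_rfl' S hQb, app_refl_rfl' S hQa,
      app_refl_rfl' S hQb] at this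
  -- two vectors of a given value in the big eigenspace, orthogonal to a given one
  have two : ∀ {s : F}, (s = 1 ∨ s = -1) → ∀ a, app h a = s • a → Q a ≠ 0 → ∃ b b',
      app h b = ε • b ∧ app h b' = ε • b' ∧ Q a = Q b ∧ Q a = Q b' ∧ polar Q a b = 0 ∧ polar Q a b' = 0 ∧
      polar Q b b' = 0 := by
    intro s hs a ha hQa
    have hv : polar Q a a ≠ 0 := by rw [polar_self']; exact mul_ne_zero S.h2 hQa
    have val : ∀ b : ι → F, polar Q b b = polar Q a a → Q a = Q b := fun b hb => by
      rw [polar_self', polar_self'] at hb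
      exact (mul_left_cancel₀ S.h2 hb).symm
    by_cases hse : s = ε
    · subst hse
      set a₀ : eig h s := ⟨a, mem_eig.2 ha⟩
      obtain ⟨b, hb, hbv⟩ := exists_perp_value hB ![a₀] (fun i => by fin_cases i; exact hv)
        (fun i j hij => absurd (Subsingleton.elim i j) hij) (by omega) (polar Q a a)
      obtain ⟨b', hb', hbv'⟩ := exists_perp_value hB ![a₀, b]
        (fun i => by fin_cases i; exacts [hv, by show eigB h s b b ≠ 0; rw [hbv]; exact hv])
        (fun i j hij => by
          have h0 : eigB h s b a₀ = 0 := hb 0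
          fin_cases i <;> fin_cases j <;> first | exact absurd rfl hij | exact h0 | exact (hB.symm _ _).trans h0)
        (by omega) (polar Q a a)
      exact ⟨b.1, b'.1, mem_eig.1 b.2, mem_eig.1 b'.2, val _ hbv, val _ hbv',
        (polar_comm _ _ _).trans (hb 0), (polar_comm _ _ _).trans (hb' 0), (polar_comm _ _ _).trans (hb' 1)⟩
    · obtain ⟨b, -, hbv⟩ := exists_perp_value hB (![] : Fin 0 → eig h ε) (fun i => i.elim0) (fun i => i.elim0)
        (by omega) (polar Q a a)
      obtain ⟨b', hb', hbv'⟩ := exists_perp_value hB ![b]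
        (fun i => by fin_cases i; show eigB h ε b b ≠ 0; rw [hbv]; exact hv)
        (fun i j hij => absurd (Subsingleton.elim i j) hij) (by omega) (polar Q a a)
      have hperp : ∀ c : eig h ε, polar Q a c.1 = 0 := fun c => by
        have hc := mem_eig.1 c.2
        rcases hs with rfl | rfl <;> rcases hε with rfl | rfl <;> simp at hse ha hc
        · exact eig_orth S ha hc
        · rw [polar_comm]; exact eig_orth S hc ha
      exact ⟨b.1, b'.1, mem_eig.1 b.2, mem_eig.1 b'.2, val _ hbv, val _ hbv', hperp b, hperp b',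
        (polar_comm _ _ _).trans (hb' 0)⟩
  obtain ⟨μ, hμ⟩ := polar_semi S y
  have hline : ∀ {s : F}, (s = 1 ∨ s = -1) → ∀ a, app h a = s • a → Q a ≠ 0 → ∃ m : F, semi y.1 a = m • a := by
    intro s hs a ha hQa
    obtain ⟨b, b', hb, hb', hab, hab', p1, p2, p3⟩ := two hs a ha hQa
    obtain ⟨l, hl, hlv⟩ := pairs hs a b ha hb hQa hab p1
    obtain ⟨l', hl', hlv'⟩ := pairs hs a b' ha hb' hQa hab' p2
    have nz : ∀ c : ι → F, Q c ≠ 0 → (Q.polarBilin : BilinForm F (ι → F)) c c ≠ 0 := fun c hc => by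
      show polar Q c c ≠ 0
      rw [polar_self']; exact mul_ne_zero S.h2 hc
    refine line_of_two_pairs hFull ?_ (semi y.1) (fun x => ?_) (fun x z => ?_) (nz a hQa)
      (nz b (hab ▸ hQa)) (nz b' (hab' ▸ hQa)) p1 p2 p3 hl hl' hlv hlv'
    · rw [Module.finrank_fintype_fun_eq_card]; exact S.hn
    · rw [← neg_one_smul F x, semi_smul, map_neg, map_one, neg_one_smul]
    · show polar Q _ _ = 0 ↔ polar Q x z = 0
      rw [hμ]; simp [μ.ne_zero]
  -- the eigenspaces are preserved
  have hpres : ∀ {s : F}, (s = 1 ∨ s = -1) → ∀ v ∈ eig h s, app h (semi y.1 v) = s • semi y.1 v := by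
    obtain ⟨c, hc⟩ := semi_comm S y (oS Q h) hu.1
    have hc' : ∀ v, semi y.1 (app h v) = (c : F) • app h (semi y.1 v) := fun v => by
      rw [← app_semi h v, ← app_semi h (semi y.1 v)]
      exact hc v
    obtain ⟨a, -, ha⟩ := exists_perp_aniso hB (![] : Fin 0 → eig h ε) (fun i => i.elim0) (fun i => i.elim0)
      (by omega)
    have haQ : Q a.1 ≠ 0 := fun e => ha (by show polar Q a.1 a.1 = 0; rw [polar_self', e, mul_zero])
    obtain ⟨m, hm⟩ := hline hε a.1 (mem_eig.1 a.2) haQ
    have ha0 : a.1 ≠ 0 := fun e => haQ (by rw [e, QuadraticMap.map_zero])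
    have hm0 : m ≠ 0 := fun e => ha0 (hinj (by
      rw [hm, e, zero_smul]; simpa using (semi_smul y.1 0 (0 : ι → F)).symm))
    have hε' : y.1.right ε = ε := by rcases hε with rfl | rfl <;> simp
    have hc1 : (c : F) = 1 := by
      have h := hc' a.1
      rw [mem_eig.1 a.2, semi_smul, hε', hm, map_smul, mem_eig.1 a.2, smul_smul, smul_smul, smul_smul] at h
      have := smul_left_injective F ha0 h
      exact (mul_right_cancel₀ (mul_ne_zero hε0 hm0) (by linear_combination this : 1 * (ε * m) = c * (ε * m))).symm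
    intro s hs v hv
    have hs' : y.1.right s = s := by rcases hs with rfl | rfl <;> simp
    have h := hc' v
    rw [mem_eig.1 hv, semi_smul, hs', hc1, one_smul] at h
    exact h.symm
  -- scalar on each eigenspace
  have hlines : ∀ {s : F}, (s = 1 ∨ s = -1) → ∀ a : eig h s, eigB h s a a ≠ 0 →
      ∃ m : F, semi y.1 a.1 = m • a.1 := fun hs a ha =>
    hline hs a.1 (mem_eig.1 a.2) fun e => ha (by show polar Q a.1 a.1 = 0; rw [polar_self', e, mul_zero])
  have hbigscal : ∀ {s : F} (hs : s = 1 ∨ s = -1), 3 ≤ finrank F (eig h s) → ∃ l : F, l ≠ 0 ∧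
      (∀ v ∈ eig h s, semi y.1 v = l • v) ∧ ∀ t, y.1.right t = t := by
    intro s hs h3
    obtain ⟨l, hl0, hlv, hτ⟩ := lines_scalar (isSymForm_eig S hh hs) h3 y.1.right
      (fun v => ⟨semi y.1 v.1, mem_eig.2 (hpres hs v.1 v.2)⟩)
      (fun v w => Subtype.ext (semi_add y.1 v.1 w.1)) (fun t v => Subtype.ext (semi_smul y.1 t v.1))
      (fun v w e => Subtype.ext (hinj (congrArg Subtype.val e)))
      (fun a ha => (hlines hs a ha).imp fun m hm => Subtype.ext hm)
    exact ⟨l, hl0, fun v hv => congrArg Subtype.val (hlv ⟨v, hv⟩), hτ⟩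
  obtain ⟨-, -, -, hτ⟩ := hbigscal hε (by omega)
  have hscal : ∀ {s : F}, (s = 1 ∨ s = -1) → ∃ l : F, l ≠ 0 ∧ ∀ v ∈ eig h s, semi y.1 v = l • v := by
    intro s hs
    by_cases h3 : 3 ≤ finrank F (eig h s)
    · obtain ⟨l, hl0, hlv, -⟩ := hbigscal hs h3
      exact ⟨l, hl0, hlv⟩
    · have hodd : Odd (finrank F (eig h s)) := by rcases hs with rfl | rfl <;> assumption
      rcases hodd with ⟨i, hi⟩
      obtain ⟨a, -, ha⟩ := exists_perp_aniso (isSymForm_eig S hh hs) (![] : Fin 0 → eig h s) (fun i => i.elim0)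
        (fun i => i.elim0) (by omega)
      have ha0 : a ≠ 0 := fun e => ha (by simp [e])
      obtain ⟨m, hm⟩ := hlines hs a ha
      refine ⟨m, fun e => ha0 (Subtype.ext (hinj (by
        rw [hm, e, zero_smul]; simpa using (semi_smul y.1 0 (0 : ι → F)).symm))), fun v hv => ?_⟩
      have h1 : finrank F (eig h s) = 1 := by omega
      obtain ⟨t, ht⟩ := (finrank_eq_one_iff_of_nonzero' a ha0).1 h1 ⟨v, hv⟩
      have e : v = t • a.1 := (congrArg Subtype.val ht).symm
      rw [e, semi_smul, hm, hτ, smul_comm]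
  obtain ⟨l, hl0, hlv⟩ := hscal (Or.inl rfl)
  obtain ⟨m, hm0, hmv⟩ := hscal (s := (-1 : F)) (Or.inr rfl)
  obtain ⟨a, -, ha⟩ := exists_perp_aniso (isSymForm_eig S hh (Or.inl rfl)) (![] : Fin 0 → eig h (1 : F))
    (fun i => i.elim0) (fun i => i.elim0) ho1.pos
  obtain ⟨b, -, hb⟩ := exists_perp_aniso (isSymForm_eig S hh (Or.inr rfl)) (![] : Fin 0 → eig h (-1 : F))
    (fun i => i.elim0) (fun i => i.elim0) ho2.pos
  have hlm : l * l = m * m := by
    have e1 := hμ a.1 a.1
    have e2 := hμ b.1 b.1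
    rw [hlv a.1 a.2, polar_smul_left, polar_smul_right, hτ, smul_eq_mul, smul_eq_mul, ← mul_assoc] at e1
    rw [hmv b.1 b.2, polar_smul_left, polar_smul_right, hτ, smul_eq_mul, smul_eq_mul, ← mul_assoc] at e2
    rw [mul_right_cancel₀ ha e1, mul_right_cancel₀ hb e2]
  rcases mul_self_eq_mul_self_iff.1 hlm with e | e
  · left
    rw [← map_one (act Q)]
    refine gAut_eq_act S y 1 l hl0 hτ fun v => ?_
    obtain ⟨p, q, hp, hq, rfl⟩ := eig_split S hh v
    rw [semi_add, hlv p (mem_eig.2 (by rw [one_smul]; exact hp)),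
      hmv q (mem_eig.2 (by rw [neg_one_smul]; exact hq)), ← e, ← smul_add]
    simp
  · right
    refine gAut_eq_act S y (oS Q h) l hl0 hτ fun v => ?_
    obtain ⟨p, q, hp, hq, rfl⟩ := eig_split S hh v
    rw [semi_add, hlv p (mem_eig.2 (by rw [one_smul]; exact hp)),
      hmv q (mem_eig.2 (by rw [neg_one_smul]; exact hq)),
      show ((oS Q h).1 : Matrix ι ι F) *ᵥ (p + q) = app h (p + q) by rw [app_apply]; rfl, map_add, hp, hq,
      show m = -l by rw [e, neg_neg]]
    module

end Square

end CfsgLib.POmegaBal
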