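import Cfsg.Agent.Lib.POmegaBal.GraphNonSq

/-!
An automorphism of order two induced by an improper similarity never causes a failure of local balance.
-/

set_option autoImplicit false
set_option linter.unusedSectionVars false

namespace CfsgLib.POmegaBal

open Matrix QuadraticMap Module CfsgLib.Orth CfsgLib.AutBalance Cfsg.Agent.GammaO57
open CfsgLib.POmegaSim (Sim SimData act oS emb)
open CfsgLib.POmegaSim.SimData (scalarS)

variable {F : Type*} [Field F] [Fintype F] {ι : Type} [Fintype ι] [DecidableEq ι]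
  {Q : QuadraticForm F (ι → F)}

/-- The extension generated by a similarity with non-square multiplier and scalar square. -/
theorem nonsquare_facts (S : SimData Q) (hM : 4 ≤ S.M) (hodd : Odd S.M) {w : ↥(Sim Q)}
    (hns : ¬ IsSquare (S.mult w : F))
    (hgg : (w.1 : Matrix ι ι F) * (w.1 : Matrix ι ι F) = (S.mult w : F) • 1) (hw2 : act Q (w * w) = 1) :
    Cfsg.pPrimeCore 2 (fixedPts (act Q w)) = ⊥ ∧
      ∀ y : ↥(semiGroup Q), Centralizes (act Q w) (gAut Q y) → gAut Q y = 1 ∨ gAut Q y = act Q w := by
  classical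
  set k : F := (S.mult w : F)
  set f : Polynomial F := Polynomial.X ^ 2 - Polynomial.C k with hf
  have hirr : Irreducible f :=
    X_pow_sub_C_irreducible_of_prime Nat.prime_two fun b hb => hns ⟨b, by rw [← pow_two]; exact hb.symm⟩
  have : Fact (Irreducible f) := ⟨hirr⟩
  have hf0 : f ≠ 0 := hirr.ne_zero
  have : Module.Finite F (AdjoinRoot f) := (AdjoinRoot.powerBasis hf0).finite
  have : Finite (AdjoinRoot f) := Module.finite_of_finite F
  let : Fintype (AdjoinRoot f) := Fintype.ofFinite _
  set G : Module.End F (ι → F) := Matrix.mulVecLin (w.1 : Matrix ι ι F)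
  have hG : Polynomial.aeval G f = 0 := by
    refine LinearMap.ext fun v => ?_
    simp only [f, map_sub, map_pow, Polynomial.aeval_X, Polynomial.aeval_C]
    show (G ^ 2) v - k • v = 0
    rw [pow_two, Module.End.mul_apply]
    show (w.1 : Matrix ι ι F) *ᵥ ((w.1 : Matrix ι ι F) *ᵥ v) - k • v = 0
    rw [Matrix.mulVec_mulVec, hgg, Matrix.smul_mulVec, Matrix.one_mulVec, sub_self]
  let φ : AdjoinRoot f →ₐ[F] Module.End F (ι → F) :=
    Ideal.Quotient.liftₐ (Ideal.span {f}) (Polynomial.aeval G) (fun p hp => by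
      obtain ⟨q, rfl⟩ := Ideal.mem_span_singleton'.1 hp
      rw [map_mul, hG, mul_zero])
  let : Module (AdjoinRoot f) (ι → F) := Module.compHom (ι → F) φ.toRingHom
  have : IsScalarTower F (AdjoinRoot f) (ι → F) := ⟨fun t a v => by
    show φ (t • a) v = t • φ a v
    rw [map_smul]; rfl⟩
  have : FiniteDimensional (AdjoinRoot f) (ι → F) := Module.Finite.of_restrictScalars_finite F _ _
  set r : AdjoinRoot f := AdjoinRoot.root f
  have hr : ∀ v : ι → F, r • v = (w.1 : Matrix ι ι F) *ᵥ v := fun v => by
    show (Polynomial.aeval G (Polynomial.X : Polynomial F)) v = _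
    rw [Polynomial.aeval_X]
    rfl
  have hrr : r * r = algebraMap F (AdjoinRoot f) k := by
    have h : Polynomial.eval₂ (AdjoinRoot.of f) r f = 0 := AdjoinRoot.eval₂_root f
    simp only [f, Polynomial.eval₂_sub, Polynomial.eval₂_X_pow, Polynomial.eval₂_C, sub_eq_zero] at h
    rw [← pow_two, h]
    rfl
  have hcoord : ∀ t : AdjoinRoot f, ∃ a b : F,
      t = algebraMap F (AdjoinRoot f) a + algebraMap F (AdjoinRoot f) b * r := by
    intro t
    induction t using AdjoinRoot.induction_on with
    | ih p =>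
      induction p using Polynomial.induction_on with
      | C a => exact ⟨a, 0, by rw [map_zero, zero_mul, add_zero]; rfl⟩
      | add p q hp hq =>
        obtain ⟨a, b, e⟩ := hp
        obtain ⟨a', b', e'⟩ := hq
        exact ⟨a + a', b + b', by rw [map_add, e, e', map_add, map_add]; ring⟩
      | monomial n a ih =>
        obtain ⟨x, y, e⟩ := ih
        refine ⟨y * k, x, ?_⟩
        rw [pow_succ, ← mul_assoc, map_mul, e, show AdjoinRoot.mk f Polynomial.X = r from rfl, map_mul, ← hrr]
        ring
  have hindep : ∀ a b : F, algebraMap F (AdjoinRoot f) a + algebraMap F (AdjoinRoot f) b * r = 0 →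
      a = 0 ∧ b = 0 := by
    intro a b h
    by_cases hb : b = 0
    · rw [hb, map_zero, zero_mul, add_zero, map_eq_zero] at h
      exact ⟨h, hb⟩
    · exfalso
      have hb' : algebraMap F (AdjoinRoot f) b ≠ 0 := (map_ne_zero _).2 hb
      have e : r = algebraMap F (AdjoinRoot f) (-a / b) := by
        rw [map_div₀, map_neg, eq_div_iff hb']
        linear_combination h
      rw [e, ← map_mul] at hrr
      exact hns ⟨-a / b, ((algebraMap F (AdjoinRoot f)).injective hrr).symm⟩
  have hdim : 5 ≤ finrank (AdjoinRoot f) (ι → F) := by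
    have h := Module.finrank_mul_finrank F (AdjoinRoot f) (ι → F)
    rw [Module.finrank_fintype_fun_eq_card, S.hM, (AdjoinRoot.powerBasis hf0).finrank,
      AdjoinRoot.powerBasis_dim, Polynomial.natDegree_X_pow_sub_C] at h
    obtain ⟨i, hi⟩ := hodd
    omega
  have C : Cplx S w r := ⟨hrr, hcoord, hindep, hr, hdim⟩
  exact ⟨C.core hw2, fun y hy => C.centralizes hy⟩

/-- An improper similarity of square order two never makes local balance fail, provided the automorphisms
commuting with it are induced by semisimilarities. -/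
theorem graph_balance_of_range (S : SimData Q) (hM : 4 ≤ S.M)
    (A : Subgroup (MulAut (Cfsg.POmega F ⇑Q))) (hinn : ∀ k, MulAut.conj k ∈ A) {x : ↥(Sim Q)}
    (hrange : ∀ u, u * act Q x = act Q x * u → u ∈ (gAut Q).range)
    (hs : S.sgn x = -1) (hx : act Q (x * x) = 1) :
    Cfsg.pPrimeCore 2 ↥(A ⊓ Subgroup.centralizer {act Q x}) = ⊥ := by
  have : Fact (Nat.Prime 2) := ⟨Nat.prime_two⟩
  have hx2 : act Q x ^ 2 = 1 := by rw [pow_two, ← map_mul, hx]
  obtain ⟨hG, hC⟩ : Cfsg.pPrimeCore 2 (fixedPts (act Q x)) = ⊥ ∧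
      ∀ y : ↥(semiGroup Q), Centralizes (act Q x) (gAut Q y) → gAut Q y = 1 ∨ gAut Q y = act Q x := by
    rcases S.graph_normal_form hs hx with ⟨c, h, rfl, hh, hd⟩ | ⟨hns, hodd, hgg⟩
    · rw [act_scalarS_mul S]
      exact ⟨core_square S hh hd, fun y hy => centralizes_square S hh hd hM hy⟩
    · exact nonsquare_facts S hM hodd hns hgg hx
  refine core_eq_bot (conj_injective S) A hinn _ hx2 hG fun u hu hfix => ?_
  obtain ⟨y, rfl⟩ := hrange u hu
  rcases hC y ⟨hu, hfix⟩ with e | e
  · rw [e]; exact one_mem _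
  · rw [e]; exact Subgroup.mem_zpowers _

/-- An improper similarity of square order two never makes local balance fail. -/
theorem graph_balance (S : SimData Q) (hM : 4 ≤ S.M) (hsurj : Function.Surjective (gAut Q))
    (A : Subgroup (MulAut (Cfsg.POmega F ⇑Q))) (hinn : ∀ k, MulAut.conj k ∈ A) {x : ↥(Sim Q)}
    (hs : S.sgn x = -1) (hx : act Q (x * x) = 1) :
    Cfsg.pPrimeCore 2 ↥(A ⊓ Subgroup.centralizer {act Q x}) = ⊥ :=
  graph_balance_of_range S hM A hinn (fun u _ => hsurj u) hs hx

end CfsgLib.POmegaBal
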