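import Cfsg.Agent.Lib.POmegaBal.GraphBal

/-!
Local balance at an automorphism induced by a similarity with non-square multiplier and scalar square: the
space over the quadratic extension generated by the similarity.
-/

set_option autoImplicit false
set_option linter.unusedSectionVars false

namespace CfsgLib.POmegaBal

open Matrix QuadraticMap Module CfsgLib.Orth CfsgLib.AutBalance Cfsg.Agent.GammaO57 CfsgLib.OrthOmega
open CfsgLib.POmegaSim (Sim SimData act oS emb)
open CfsgLib.POmegaSim.SimData (scalarS)
open LinearMap (BilinForm)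
open scoped commutatorElement

variable {F : Type*} [Field F] [Fintype F] {ι : Type} [Fintype ι] [DecidableEq ι]
  {Q : QuadraticForm F (ι → F)} {K : Type*} [Field K] [Fintype K] [Algebra F K] [Module K (ι → F)]
  [IsScalarTower F K (ι → F)] [FiniteDimensional K (ι → F)]

/-- The space as a vector space over the extension generated by a similarity. -/
structure Cplx (S : SimData Q) (w : ↥(Sim Q)) (r : K) : Prop where
  rr : r * r = algebraMap F K (S.mult w : F)
  coord : ∀ t : K, ∃ a b : F, t = algebraMap F K a + algebraMap F K b * r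
  indep : ∀ a b : F, algebraMap F K a + algebraMap F K b * r = 0 → a = 0 ∧ b = 0
  smul_r : ∀ v : ι → F, r • v = (w.1 : Matrix ι ι F) *ᵥ v
  dim : 5 ≤ finrank K (ι → F)

namespace Cplx

variable {S : SimData Q} {w : ↥(Sim Q)} {r : K} (C : Cplx S w r)
include C

theorem gg (v : ι → F) : (w.1 : Matrix ι ι F) *ᵥ ((w.1 : Matrix ι ι F) *ᵥ v) = (S.mult w : F) • v := by
  rw [← C.smul_r, ← C.smul_r, smul_smul, C.rr, algebraMap_smul]

theorem polar_g (x y : ι → F) : polar Q ((w.1 : Matrix ι ι F) *ᵥ x) ((w.1 : Matrix ι ι F) *ᵥ y) =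
    (S.mult w : F) * polar Q x y := by
  simp only [QuadraticMap.polar, ← Matrix.mulVec_add, S.mult_spec]
  ring

theorem polar_g_symm (x y : ι → F) :
    polar Q ((w.1 : Matrix ι ι F) *ᵥ x) y = polar Q x ((w.1 : Matrix ι ι F) *ᵥ y) := by
  refine mul_left_cancel₀ (Units.ne_zero (S.mult w)) ?_
  rw [← C.polar_g, C.gg, polar_smul_left, smul_eq_mul]

omit C in
/-- The value of the extended form. -/
noncomputable def val (w : ↥(Sim Q)) (S : SimData Q) (r : K) (x y : ι → F) : K :=
  algebraMap F K (polar Q x y) + algebraMap F K (polar Q ((w.1 : Matrix ι ι F) *ᵥ x) y / (S.mult w : F)) * r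

theorem val_comm (x y : ι → F) : val w S r x y = val w S r y x := by
  rw [val, val, polar_comm Q x y, C.polar_g_symm, polar_comm Q x]

theorem val_smul (t : K) (x y : ι → F) : val w S r (t • x) y = t * val w S r x y := by
  obtain ⟨a, b, rfl⟩ := C.coord t
  have hk := Units.ne_zero (S.mult w)
  rw [add_smul, ← smul_smul, algebraMap_smul, algebraMap_smul, C.smul_r, val, val, Matrix.mulVec_add,
    Matrix.mulVec_smul, Matrix.mulVec_smul, C.gg, polar_add_left, polar_add_left, polar_smul_left,
    polar_smul_left, polar_smul_left, polar_smul_left, polar_smul_left]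
  have e : algebraMap F K b * r * (algebraMap F K (polar Q ((w.1 : Matrix ι ι F) *ᵥ x) y / (S.mult w : F)) * r) =
      algebraMap F K (b * polar Q ((w.1 : Matrix ι ι F) *ᵥ x) y) := by
    rw [show algebraMap F K b * r * (algebraMap F K (polar Q ((w.1 : Matrix ι ι F) *ᵥ x) y / (S.mult w : F)) * r) =
      algebraMap F K b * algebraMap F K (polar Q ((w.1 : Matrix ι ι F) *ᵥ x) y / (S.mult w : F)) * (r * r) by ring,
      C.rr, ← map_mul, ← map_mul]
    congr 1
    field_simp
  rw [add_mul, mul_add, mul_add, e]
  simp only [smul_eq_mul, map_add, map_mul, map_div₀]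
  have hk' : algebraMap F K (S.mult w : F) ≠ 0 := (map_ne_zero _).2 hk
  field_simp
  ring

/-- The extended form. -/
noncomputable def form : BilinForm K (ι → F) :=
  LinearMap.mk₂ K (val w S r)
    (fun x x' y => by
      simp only [val, Matrix.mulVec_add, polar_add_left, add_div, map_add]
      ring)
    (fun t x y => C.val_smul t x y)
    (fun x y y' => by
      simp only [val, polar_add_right, add_div, map_add]
      ring)
    (fun t x y => by rw [C.val_comm, C.val_smul, C.val_comm, smul_eq_mul])

theorem form_apply (x y : ι → F) : C.form x y = val w S r x y := rfl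

theorem form_eq_zero {x y : ι → F} (h : C.form x y = 0) :
    polar Q x y = 0 ∧ polar Q ((w.1 : Matrix ι ι F) *ᵥ x) y = 0 := by
  obtain ⟨h1, h2⟩ := C.indep _ _ h
  exact ⟨h1, (div_eq_zero_iff.1 h2).resolve_right (Units.ne_zero _)⟩

theorem form_inj {x y x' y' : ι → F} (h : C.form x y = C.form x' y') : polar Q x y = polar Q x' y' := by
  rw [C.form_apply, C.form_apply, val, val] at h
  refine sub_eq_zero.1 (C.indep _ (polar Q ((w.1 : Matrix ι ι F) *ᵥ x) y / (S.mult w : F) -
    polar Q ((w.1 : Matrix ι ι F) *ᵥ x') y' / (S.mult w : F)) ?_).1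
  rw [map_sub, map_sub]
  linear_combination h

theorem isSymForm : IsSymForm C.form where
  symm := C.val_comm
  nondeg x hx := S.hQ.1 x fun y => (C.form_eq_zero (hx y)).1
  two_ne h := S.h2 ((algebraMap F K).injective (by rw [map_ofNat, map_zero]; exact h))

/-- The reflection as a linear equivalence. -/
noncomputable def rflE (a : ι → F) : (ι → F) ≃ₗ[K] (ι → F) :=
  LinearEquiv.ofLinear
    { toFun := rfl' C.form a
      map_add' := fun v v' => by
        simp only [rfl', map_add, LinearMap.add_apply, mul_add, add_div, add_smul]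
        abel
      map_smul' := fun t v => by
        simp only [rfl', map_smul, LinearMap.smul_apply, smul_eq_mul, RingHom.id_apply, smul_sub, smul_smul]
        congr 2
        ring }
    { toFun := rfl' C.form a
      map_add' := fun v v' => by
        simp only [rfl', map_add, LinearMap.add_apply, mul_add, add_div, add_smul]
        abel
      map_smul' := fun t v => by
        simp only [rfl', map_smul, LinearMap.smul_apply, smul_eq_mul, RingHom.id_apply, smul_sub, smul_smul]
        congr 2
        ring }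
    (LinearMap.ext fun v => rfl'_rfl' C.isSymForm a v) (LinearMap.ext fun v => rfl'_rfl' C.isSymForm a v)

theorem rflE_apply (a v : ι → F) : C.rflE a v = rfl' C.form a v := rfl

/-- The reflection as an isometry. -/
noncomputable def R (a : ι → F) : O Q :=
  ofEquiv ((C.rflE a).restrictScalars F) fun v => by
    have h : polar Q (rfl' C.form a v) (rfl' C.form a v) = polar Q v v :=
      C.form_inj (form_rfl' C.isSymForm a v v)
    rw [polar_self', polar_self'] at h
    exact mul_left_cancel₀ S.h2 h

theorem app_R (a v : ι → F) : app (C.R a) v = rfl' C.form a v := app_ofEquiv _ _ v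

theorem commute_R (a : ι → F) : Commute (oS Q (C.R a)) w := by
  refine Subtype.ext (Units.ext (Matrix.ext_of_mulVec_single fun i => ?_))
  show ((((C.R a : O Q) : GL ι F) : Matrix ι ι F) * (w.1 : Matrix ι ι F)) *ᵥ _ =
    ((w.1 : Matrix ι ι F) * (((C.R a : O Q) : GL ι F) : Matrix ι ι F)) *ᵥ _
  rw [← Matrix.mulVec_mulVec, ← Matrix.mulVec_mulVec, ← app_apply, ← app_apply, C.app_R, C.app_R,
    ← C.smul_r, ← C.smul_r, ← C.rflE_apply, ← C.rflE_apply, map_smul]

/-- The reflections. -/
noncomputable def sys : ReflSys Q (act Q w) C.form where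
  hB := C.isSymForm
  j := AddMonoidHom.id _
  R := C.R
  on_j a _ v := C.app_R a v
  on_perp a _ z hz := by
    have : z = 0 := S.hQ.1 z fun v => by
      show polar Q z v = 0
      rw [polar_comm]; exact hz v
    rw [this, map_zero]
  span z := ⟨z, 0, fun _ => QuadraticMap.polar_zero_right _ _, (add_zero z).symm⟩
  j_inj := fun _ _ h => h
  comm a _ := (C.commute_R a).map (act Q)

/-- An isometry commuting with the similarity is linear over the extension. -/
theorem exists_lin {s : O Q}
    (hs : ∀ v, app s ((w.1 : Matrix ι ι F) *ᵥ v) = (w.1 : Matrix ι ι F) *ᵥ app s v) :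
    ∃ f : (ι → F) ≃ₗ[K] (ι → F), (∀ x y, C.form (f x) (f y) = C.form x y) ∧ ∀ v, app s v = f v := by
  have hlin : ∀ (t : O Q), (∀ v, app t ((w.1 : Matrix ι ι F) *ᵥ v) = (w.1 : Matrix ι ι F) *ᵥ app t v) →
      ∀ (c : K) v, app t (c • v) = c • app t v := fun t ht c v => by
    obtain ⟨a, b, rfl⟩ := C.coord c
    simp only [add_smul, ← smul_smul, algebraMap_smul, C.smul_r, map_add, map_smul, ht]
  have hs' : ∀ v, app s⁻¹ ((w.1 : Matrix ι ι F) *ᵥ v) = (w.1 : Matrix ι ι F) *ᵥ app s⁻¹ v := fun v =>
    app_injective s (by rw [hs, app_app_inv, app_app_inv])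
  refine ⟨LinearEquiv.ofLinear ⟨⟨app s, map_add _⟩, hlin s hs⟩ ⟨⟨app s⁻¹, map_add _⟩, hlin s⁻¹ hs'⟩
    (LinearMap.ext fun v => app_app_inv s v) (LinearMap.ext fun v => app_inv_app s v), fun x y => ?_,
    fun v => rfl⟩
  show val w S r (app s x) (app s y) = val w S r x y
  simp only [val, ← hs, polar_app]

/-- The core is trivial. -/
theorem core (hw2 : act Q (w * w) = 1) : Cfsg.pPrimeCore 2 (fixedPts (act Q w)) = ⊥ := by
  refine core_fixedPts_eq_bot S ((map_mul (act Q) w w).symm.trans hw2) fun y hy => Or.inl ?_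
  have hcomm : ∀ y ∈ coreM (act Q w), ∃ (s : O Q) (f : (ι → F) ≃ₗ[K] (ι → F)), y = act Q (oS Q s) ∧
      (∀ x y, C.form (f x) (f y) = C.form x y) ∧ ∀ v, app s v = f v := fun y hy => by
    obtain ⟨s, rfl, hc⟩ := exists_of_mem_coreM S hy
    have hn := congrArg Subtype.val (pow_card_eq_one' (x := (⟨_, hy⟩ : coreM (act Q w))))
    obtain ⟨f, hf⟩ := C.exists_lin (exact_comm S hw2 hc (odd_coreM _) hn)
    exact ⟨s, f, rfl, hf⟩
  obtain ⟨s, f, rfl, hf, hfs⟩ := hcomm y hy
  have h3 : 3 ≤ finrank K (ι → F) := le_trans (by norm_num) C.dim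
  obtain ⟨l, -, hl, -⟩ := lines_scalar C.isSymForm h3 id f (map_add f) (fun t x => map_smul f t x) f.injective
    fun a ha => C.sys.lines_coreM S h3 hcomm hy hf hfs ha
  obtain ⟨a, -, ha⟩ := exists_perp_aniso C.isSymForm (![] : Fin 0 → ι → F) (fun i => i.elim0) (fun i => i.elim0)
    (by omega)
  have hll := hf a a
  simp only [hl, map_smul, LinearMap.smul_apply, smul_eq_mul] at hll
  obtain ⟨e, he, hev⟩ : ∃ e : F, e ≠ 0 ∧ ∀ v, f v = e • v := by
    rcases mul_self_eq_one_iff.1 (mul_right_cancel₀ ha
      (by linear_combination hll : l * l * C.form a a = 1 * C.form a a)) with rfl | rfl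
    · exact ⟨1, one_ne_zero, fun v => by rw [hl, one_smul, one_smul]⟩
    · exact ⟨-1, neg_ne_zero.2 one_ne_zero, fun v => by rw [hl, neg_one_smul, neg_one_smul]⟩
  rw [← map_one (act Q)]
  refine gAut_eq_act S (emb Q (oS Q s)) 1 e he (fun t => rfl) fun v => ?_
  rw [show semi (emb Q (oS Q s)).1 v = app s v from app_semi s v, hfs, hev]
  simp

theorem pair_mem {a b : ι → F} (ha : C.form a a ≠ 0) (hb : C.form b b = C.form a a) (hab : C.form a b = 0) :
    C.R a * C.R b ∈ Cfsg.Omega F ⇑Q := by
  set c := a - b
  have hcc : C.form c c = 2 * C.form a a := by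
    simp only [c, map_sub, LinearMap.sub_apply, C.isSymForm.symm b a, hab, hb]; ring
  have hc : C.form c c ≠ 0 := by rw [hcc]; exact mul_ne_zero C.isSymForm.two_ne ha
  have himg : rfl' C.form c a = b := by
    have : C.form a c = C.form a a := by simp [c, hab]
    rw [rfl', this, hcc, div_self (mul_ne_zero C.isSymForm.two_ne ha), one_smul]
    simp [c]
  have hconj := C.sys.R_conj (C.R c) (C.rflE c) (fun v v' => form_rfl' C.isSymForm c v v')
    (fun v => C.app_R c v) ha
  rw [C.rflE_apply, himg] at hconj
  have e : C.R a * C.R b = ⁅C.R a, C.R c⁆ := by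
    have hconj' : C.R c * C.R a * (C.R c)⁻¹ = C.R b := hconj
    have hRa : (C.R a)⁻¹ = C.R a := inv_eq_of_mul_eq_one_right (C.sys.R_mul_self ha)
    rw [commutatorElement_def, hRa, ← hconj']
    simp only [← mul_assoc]
  rw [e, Cfsg.Omega, _root_.commutator_def]
  exact Subgroup.commutator_mem_commutator (Subgroup.mem_top _) (Subgroup.mem_top _)

/-- An automorphism centralising the fixed points is `1` or the involution. -/
theorem centralizes {y : ↥(semiGroup Q)} (hu : Centralizes (act Q w) (gAut Q y)) :
    gAut Q y = 1 ∨ gAut Q y = act Q w := by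
  classical
  have hB := C.isSymForm
  set τ := y.1.right
  set u := semi y.1
  have hinj : Function.Injective u := fun v v' e => by
    rw [← semi_inv_semi y.1 v, ← semi_inv_semi y.1 v']
    exact congrArg _ e
  obtain ⟨c, hc⟩ := semi_comm S y w hu.1
  choose A B hAB using C.coord
  set τK : K → K := fun t => algebraMap F K (τ (A t)) + algebraMap F K (τ (B t) * c) * r
  have hsmul : ∀ (t : K) x, u (t • x) = τK t • u x := fun t x => by
    conv_lhs => rw [hAB t, add_smul, ← smul_smul, algebraMap_smul, algebraMap_smul, C.smul_r]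
    simp only [u, semi_add, semi_smul, hc, τK, add_smul, ← smul_smul, algebraMap_smul, C.smul_r]
    rfl
  obtain ⟨μ, hμ⟩ := polar_semi S y
  have hpg : ∀ x z, (c : F) * polar Q ((w.1 : Matrix ι ι F) *ᵥ u x) (u z) =
      (μ : F) * τ (polar Q ((w.1 : Matrix ι ι F) *ᵥ x) z) := fun x z => by
    rw [← hμ, hc, polar_smul_left]; rfl
  have h0 : ∀ x z, C.form (u x) (u z) = 0 ↔ C.form x z = 0 := fun x z => by
    have key : ∀ x z, C.form x z = 0 ↔ polar Q x z = 0 ∧ polar Q ((w.1 : Matrix ι ι F) *ᵥ x) z = 0 :=
      fun x z => ⟨C.form_eq_zero, fun h => by rw [C.form_apply, val, h.1, h.2]; simp⟩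
    rw [key, key]
    refine and_congr ?_ ?_
    · show polar Q (semi y.1 x) (semi y.1 z) = 0 ↔ _
      rw [hμ]; simp
    · have h := hpg x z
      constructor
      · intro e; rw [e, mul_zero] at h; simpa [τ] using h.symm
      · intro e; rw [e, map_zero, mul_zero] at h; simpa using h
  have hneg : ∀ x, u (-x) = -u x := fun x => map_neg (AddMonoidHom.mk' u (semi_add y.1)) x
  have hline : ∀ a, C.form a a ≠ 0 → ∃ m : K, u a = m • a := by
    intro a ha
    have hd := C.dim
    obtain ⟨b, hb, hbv⟩ := exists_perp_value hB ![a] (fun i => by fin_cases i; exact ha)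
      (fun i j hij => absurd (Subsingleton.elim i j) hij) (by omega) (C.form a a)
    have hba : C.form b a = 0 := hb 0
    have hab : C.form a b = 0 := (hB.symm a b).trans hba
    have hb0 : C.form b b ≠ 0 := hbv ▸ ha
    obtain ⟨b', hb', hbv'⟩ := exists_perp_value hB ![a, b] (fun i => by fin_cases i <;> simp [ha, hb0])
      (fun i j hij => by fin_cases i <;> fin_cases j <;> first | exact absurd rfl hij | exact hab | exact hba)
      (by omega) (C.form a a)
    have hb0' : C.form b' b' ≠ 0 := hbv' ▸ ha
    have hab' : C.form a b' = 0 := (hB.symm a b').trans (hb' 0)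
    have hbb' : C.form b b' = 0 := (hB.symm b b').trans (hb' 1)
    have pr : ∀ d, C.form d d = C.form a a → C.form a d = 0 → ∃ l : K, (l = 1 ∨ l = -1) ∧
        ∀ v, u (rfl' C.form a (rfl' C.form d v)) = l • rfl' C.form a (rfl' C.form d (u v)) := by
      intro d hdv had
      have hd0 : C.form d d ≠ 0 := hdv ▸ ha
      obtain ⟨l, hl, hlv⟩ := semi_pair S hu (C.pair_mem ha hdv had)
        (((map_mul (oS Q) _ _).symm ▸ (C.commute_R a).mul_left (C.commute_R d)).map (act Q)) (by
          rw [mul_assoc, ← mul_assoc (C.R d), show C.R d * C.R a = C.R a * C.R d from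
            (C.sys.R_comm ha hd0 had).symm, mul_assoc, show C.R d * C.R d = 1 from C.sys.R_mul_self hd0, mul_one,
            show C.R a * C.R a = 1 from C.sys.R_mul_self ha])
      refine ⟨algebraMap F K l, hl.imp (fun e => by rw [e, map_one]) (fun e => by rw [e, map_neg, map_one]),
        fun v => ?_⟩
      have h := hlv v
      rw [app_mul, app_mul, C.app_R, C.app_R, C.app_R, C.app_R] at h
      rw [algebraMap_smul]
      exact h
    obtain ⟨l, hl, hlv⟩ := pr b hbv hab
    obtain ⟨l', hl', hlv'⟩ := pr b' hbv' hab'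
    exact line_of_two_pairs hB C.dim u hneg h0 ha hb0 hb0' hab hab' hbb' hl hl' hlv hlv'
  obtain ⟨l, hl0, hlv, hτK⟩ := lines_scalar hB (le_trans (by norm_num) C.dim) τK u (semi_add y.1) hsmul hinj hline
  have hlin : ∀ (t : K) x, u (t • x) = t • u x := fun t x => by rw [hsmul, hτK]
  obtain ⟨e, he⟩ : ∃ e : ι → F, u e ≠ 0 := ⟨S.e, fun h => by
    have h' : S.e = 0 := hinj (h.trans (map_zero (AddMonoidHom.mk' u (semi_add y.1))).symm)
    have := S.he
    rw [h', QuadraticMap.map_zero] at this
    exact zero_ne_one this⟩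
  have hτ : ∀ t, τ t = t := fun t => by
    have h := hlin (algebraMap F K t) e
    rw [algebraMap_smul, algebraMap_smul] at h
    exact smul_left_injective F he ((semi_smul y.1 t e).symm.trans h)
  have hc1 : (c : F) = 1 := by
    have h := hlin r e
    rw [C.smul_r, C.smul_r] at h
    have h' := (hc e).symm.trans h
    have hge : (w.1 : Matrix ι ι F) *ᵥ u e ≠ 0 := fun e0 => he (by
      have := C.gg (u e); rw [e0, Matrix.mulVec_zero] at this
      exact (smul_eq_zero.1 this.symm).resolve_left (Units.ne_zero _))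
    exact smul_left_injective F hge (h'.trans (one_smul F _).symm)
  obtain ⟨a, -, ha⟩ := exists_perp_aniso hB (![] : Fin 0 → ι → F) (fun i => i.elim0) (fun i => i.elim0)
    (by have := C.dim; omega)
  have hll : l * l = algebraMap F K μ := by
    refine mul_right_cancel₀ ha ?_
    have h : C.form (u a) (u a) = algebraMap F K μ * C.form a a := by
      have h1 := hpg a a
      rw [hc1, one_mul, hτ] at h1
      rw [C.form_apply, C.form_apply, val, val, h1, show polar Q (u a) (u a) = _ from hμ a a,
        show y.1.right (polar Q a a) = polar Q a a from hτ _, map_mul, mul_div_assoc, map_mul]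
      ring
    rw [← h, hlv]
    simp only [map_smul, LinearMap.smul_apply, smul_eq_mul]
    ring
  obtain ⟨p, q, rfl⟩ := C.coord l
  have h2 : algebraMap F K (p * p + q * q * (S.mult w : F) - μ) + algebraMap F K (2 * p * q) * r = 0 := by
    simp only [map_add, map_sub, map_mul, map_ofNat, ← C.rr]
    linear_combination hll
  have hpq := (C.indep _ _ h2).2
  have hu' : ∀ v, semi y.1 v = p • v + q • ((w.1 : Matrix ι ι F) *ᵥ v) := fun v => by
    show u v = _
    rw [hlv, add_smul, ← smul_smul, algebraMap_smul, algebraMap_smul, C.smul_r]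
  have hp0 : p = 0 ∨ q = 0 := by
    rcases mul_eq_zero.1 hpq with h | h
    · exact Or.inl ((mul_eq_zero.1 h).resolve_left S.h2)
    · exact Or.inr h
  rcases hp0 with h | h
  · right
    refine gAut_eq_act S y w q (fun e => hl0 (by simp [h, e])) hτ fun v => ?_
    rw [hu', h, zero_smul, zero_add]
  · left
    rw [← map_one (act Q)]
    refine gAut_eq_act S y 1 p (fun e => hl0 (by simp [h, e])) hτ fun v => ?_
    rw [hu', h, zero_smul, add_zero]
    simp

end Cplx

end CfsgLib.POmegaBal
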